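/-
The stabiliser of an isotropic vector of SU(6,2) is generated by the transvections with orthogonal centre.

Main results (namespace `Cfsg.Agent.U62Mult`): `trivialExt`, `stab_le_closure`, `exists_scale`.
-/
import Cfsg.Agent.Lib.ThreeTransSU.RadicalBound
import Cfsg.Agent.Lib.U62Cover.Lift
import Cfsg.Agent.Lib.Unitary.Block

set_option autoImplicit false

namespace Cfsg.Agent.U62Mult

open scoped Matrix
open Cfsg.Agent.Unitary Cfsg.Agent.U62Cover Cfsg.Agent.ThreeTransSU

variable {F : Type*} [Field F] [Fintype F]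

/-- `p1` and `p2` of the standard line form an orthogonal pair. -/
theorem orthPair_std (hF : Fintype.card F = 4) : OrthPair (p1 : Fin 6 → F) p2 := by
  obtain ⟨h11, h22, -, -, h12, -⟩ := herm_std (F := F) hF
  refine ⟨⟨fun h => ?_, h11⟩, ⟨fun h => ?_, h22⟩, h12, fun c h => ?_⟩
  · simpa [p1] using congrFun h 0
  · simpa [p2] using congrFun h 2
  · simpa [p1, p2] using congrFun h 2

theorem lineProd_tv (hF : Fintype.card F = 4) {ω : F} (hω : ω ^ 2 = ω + 1) :
    lineProd (tv hF) ω (p1 : Fin 6 → F) p2 = 1 := by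
  have h := line_prod hF hω
  simp only [line, List.map_cons, List.map_nil, List.prod_cons, List.prod_nil, mul_one, pt,
    zero_smul, add_zero, one_smul, ← hω] at h
  simpa [lineProd, mul_assoc] using h

/-- SU(6,2) as an extension of itself. -/
theorem trivialExt (hF : Fintype.card F = 4) :
    Ext (MonoidHom.id (Cfsg.SU 6 F 2)) (tv hF) where
  card := hF
  five := by norm_num
  surj := fun g => ⟨g, rfl⟩
  ker := by
    rw [MonoidHom.ker_id]
    exact IsPGroup.of_bot
  map_s := fun v _ => rfl
  sq := fun v hv => tv_sq hF hv.2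
  smul := fun v c hv hc => tv_smul hF hv hc
  equiv := fun b v hv => tv_conj_inv hF b hv.2
  gen := closure_tv hF (by norm_num)
  line := ⟨p1, p2, orthPair_std hF, fun _ hω => lineProd_tv hF hω⟩

/-! ### SU(4,2) on the last four coordinates -/

theorem det_block {k m : ℕ} (A : Matrix (Fin k) (Fin k) F) (B : Matrix (Fin m) (Fin m) F) :
    (blockMatrix A B).det = A.det * B.det := by
  have e : blockMatrix A B = Matrix.reindex finSumFinEquiv finSumFinEquiv (Matrix.fromBlocks A 0 0 B) := by
    ext i j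
    induction i using Fin.addCases <;> induction j using Fin.addCases <;> simp [blockMatrix]
  rw [e, Matrix.det_reindex_self, Matrix.det_fromBlocks_zero₂₁]

/-- SU(4,2) on the last four coordinates. -/
noncomputable def emb : Cfsg.SU 4 F 2 →* Cfsg.SU (2 + 4) F 2 where
  toFun g := ⟨⟨blockMatrix (1 : Matrix (Fin 2) (Fin 2) F) (mt g),
      by rw [det_block, Matrix.det_one, one_mul]; exact (g : Matrix.SpecialLinearGroup (Fin 4) F).2⟩,
    isUnitary_block IsUnitary.one (SU_apply g)⟩
  map_one' := by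
    refine Subtype.ext (Subtype.ext ?_)
    show blockMatrix (1 : Matrix (Fin 2) (Fin 2) F) (1 : Matrix (Fin 4) (Fin 4) F) = 1
    ext i j
    induction i using Fin.addCases <;> induction j using Fin.addCases <;>
      simp [blockMatrix, Matrix.one_apply, Fin.ext_iff] <;> intro h <;> omega
  map_mul' g h := Subtype.ext (Subtype.ext (by
    show blockMatrix 1 (U62Cover.mt g * U62Cover.mt h) =
      blockMatrix 1 (U62Cover.mt g) * blockMatrix 1 (U62Cover.mt h)
    rw [← blockMatrix_mul, one_mul]))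

theorem mt_emb (g : Cfsg.SU 4 F 2) (a : Fin 2 → F) (b : Fin 4 → F) :
    act (emb g) (Fin.append a b) = Fin.append a (act g b) := by
  show blockMatrix 1 (mt g) *ᵥ Fin.append a b = _
  rw [blockMatrix_mulVec, Matrix.one_mulVec]
  rfl

theorem hf_append (a a' : Fin 2 → F) (b b' : Fin 4 → F) :
    hf (Fin.append a b) (Fin.append a' b') = hf a a' + hf b b' := hermForm_append a a' b b'

theorem emb_tv (hF : Fintype.card F = 4) {u : Fin 4 → F} (hu : Iso u) :
    Iso (Fin.append (0 : Fin 2 → F) u) ∧ emb (tv hF u) = tv hF (Fin.append (0 : Fin 2 → F) u) := by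
  have hI : Iso (Fin.append (0 : Fin 2 → F) u) :=
    ⟨fun h => hu.1 (funext fun i => by simpa using congrFun h (Fin.natAdd 2 i)), by
      rw [hf_append, hf_zero_left hF, hu.2, add_zero]⟩
  refine ⟨hI, act_ext fun x => ?_⟩
  rw [← append_split x, mt_emb, act_tv hF hu.2, act_tv hF hI.2, hf_append, hf_zero_right hF, zero_add]
  funext i
  induction i using Fin.addCases <;> simp

theorem mem_range_emb (hF : Fintype.card F = 4) (g : Cfsg.SU (2 + 4) F 2)
    (hg : ∀ a : Fin 2 → F, act g (Fin.append a 0) = Fin.append a 0) : g ∈ (emb (F := F)).range := by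
  have hF2 := card_sq hF
  let B : Matrix (Fin 4) (Fin 4) F := (mt g).submatrix (Fin.natAdd 2) (Fin.natAdd 2)
  have hleft : ∀ (b : Fin 4 → F) (i : Fin 2), act g (Fin.append 0 b) (Fin.castAdd 4 i) = 0 := by
    intro b i
    have h := act_hf g (Fin.append 0 b) (Fin.append (Pi.single i 1) 0)
    rw [hg, ← append_split (act g (Fin.append 0 b)), hf_append, hf_append, hf_zero_right hF,
      hf_zero_right hF, hf_zero_left hF, add_zero, add_zero] at h
    simpa [Cfsg.hermForm, Pi.single_apply] using h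
  have hright : ∀ b : Fin 4 → F, act g (Fin.append 0 b) = Fin.append 0 (B *ᵥ b) := by
    intro b
    funext i
    induction i using Fin.addCases with
    | left i => simpa using hleft b i
    | right i =>
      show (mt g *ᵥ Fin.append 0 b) (Fin.natAdd 2 i) = _
      simp only [Matrix.mulVec, dotProduct]
      rw [Fin.sum_univ_add]
      simp [B, Matrix.mulVec, dotProduct]
  have hall : ∀ (a : Fin 2 → F) (b : Fin 4 → F), act g (Fin.append a b) = Fin.append a (B *ᵥ b) := by
    intro a b
    have e : (Fin.append a b : Fin (2 + 4) → F) = Fin.append a 0 + Fin.append 0 b := by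
      funext i; induction i using Fin.addCases <;> simp
    rw [e, act_add, hg, hright]
    funext i; induction i using Fin.addCases <;> simp
  have hM : mt g = blockMatrix 1 B := Matrix.ext_iff_mulVec.2 fun x => by
    rw [← append_split x, blockMatrix_mulVec, Matrix.one_mulVec]
    exact hall _ _
  have hdet : B.det = 1 := by
    have h := (g : Matrix.SpecialLinearGroup (Fin (2 + 4)) F).2
    rw [show (g : Matrix.SpecialLinearGroup (Fin (2 + 4)) F).1 = mt g from rfl, hM, det_block,
      Matrix.det_one, one_mul] at h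
    exact h
  have hU : ∀ u v, Cfsg.hermForm 4 F 2 (B *ᵥ u) (B *ᵥ v) = Cfsg.hermForm 4 F 2 u v := by
    intro u v
    have h := act_hf g (Fin.append 0 u) (Fin.append 0 v)
    rw [hright, hright, hf_append, hf_append, hf_zero_left hF, zero_add, zero_add] at h
    exact h
  refine ⟨⟨⟨B, hdet⟩, hU⟩, Subtype.ext (Subtype.ext ?_)⟩
  exact hM.symm

/-- A root of `x² + x + 1` gives the partner `z` of `p1`. -/
theorem partner_std (hF : Fintype.card F = 4) {ω : F} (hω : ω ^ 2 = ω + 1) :
    Partner (p1 : Fin 6 → F) ![ω, ω ^ 2, 0, 0, 0, 0] := by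
  have h2 := two_eq_zero hF
  have h3 : ω ^ 3 = 1 := by linear_combination (ω + 1) * hω + ω * h2
  refine ⟨?_, ?_⟩
  · simp [Cfsg.hermForm, Fin.sum_univ_six]
    linear_combination (ω ^ 3 + 2) * h3 + h2
  · simp [Cfsg.hermForm, p1, Fin.sum_univ_six]
    linear_combination ω * h3 + hω + ω * h2

/-- The transvections with centre orthogonal to `p1`. -/
def perpTv (hF : Fintype.card F = 4) : Subgroup (Cfsg.SU 6 F 2) :=
  Subgroup.closure {A | ∃ u, Iso u ∧ hf u (p1 : Fin 6 → F) = 0 ∧ A = tv hF u}

theorem stab_le_closure (hF : Fintype.card F = 4) (g : Cfsg.SU 6 F 2)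
    (hg : act g (p1 : Fin 6 → F) = p1) : g ∈ perpTv hF := by
  obtain ⟨ω, -, hω⟩ := exists_omega hF
  set z : Fin 6 → F := ![ω, ω ^ 2, 0, 0, 0, 0] with hzdef
  have hz : Partner (p1 : Fin 6 → F) z := partner_std hF hω
  have hv : Iso (p1 : Fin 6 → F) := (orthPair_std hF).1
  have hz' : Partner (p1 : Fin 6 → F) (act g z) := by
    refine ⟨by rw [act_hf]; exact hz.1, ?_⟩
    have h1 := act_hf g (p1 : Fin 6 → F) z
    rw [hg] at h1
    rw [h1]; exact hz.2
  obtain ⟨r, hr, hrz⟩ := (trivialExt hF).radical_transitive (m := 4) rfl hv hz hz'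
  have hle : (trivialExt hF).radical p1 ≤ perpTv hF := by
    refine (Subgroup.closure_le _).2 ?_
    rintro _ (⟨u, b, h, rfl⟩ | h)
    · have h' := h.shift hF b
      exact mul_mem (Subgroup.subset_closure ⟨u, h.2.1, (hf_eq_zero_symm hF).1 h.2.2.1, rfl⟩)
        (Subgroup.subset_closure ⟨_, h'.2.1, (hf_eq_zero_symm hF).1 h'.2.2.1, rfl⟩)
    · rw [Set.mem_singleton_iff] at h
      exact Subgroup.subset_closure ⟨p1, hv, hv.2, h⟩
  have hrv : act r (p1 : Fin 6 → F) = p1 := ((trivialExt hF).radical_spec hv hr).1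
  have hrz' : act r z = act g z := hrz
  set k : Cfsg.SU 6 F 2 := r⁻¹ * g with hk
  have hkv : act k (p1 : Fin 6 → F) = p1 := by
    rw [hk, act_mul, hg]; conv_lhs => rw [← hrv, act_inv_act]
  have hkz : act k z = z := by rw [hk, act_mul, ← hrz', act_inv_act]
  have hfix : ∀ a : Fin 2 → F, act (n := 2 + 4) k (Fin.append a 0) = Fin.append a (0 : Fin 4 → F) := by
    intro a
    have e : (Fin.append a (0 : Fin 4 → F) : Fin (2 + 4) → F) =
        (a 0 * ω ^ 2 + a 1 * ω) • (p1 : Fin 6 → F) + (a 0 + a 1) • z := by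
      have h2 := two_eq_zero hF
      funext i
      fin_cases i <;> simp [p1, hzdef, Fin.append, Fin.addCases] <;> grind
    rw [e, act_add, act_smul, act_smul, hkv, hkz]
  obtain ⟨b, hb⟩ := mem_range_emb hF _ hfix
  have hbmem : ∀ b : Cfsg.SU 4 F 2, (emb b : Cfsg.SU 6 F 2) ∈ perpTv hF := by
    intro b
    have hb : b ∈ Subgroup.closure {A : Cfsg.SU 4 F 2 | ∃ v, Iso v ∧ A = tv hF v} := by
      rw [closure_tv hF (by norm_num)]; exact Subgroup.mem_top _
    have hle : Subgroup.closure {A : Cfsg.SU 4 F 2 | ∃ v, Iso v ∧ A = tv hF v} ≤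
        (perpTv hF).comap (emb : Cfsg.SU 4 F 2 →* Cfsg.SU 6 F 2) := by
      refine (Subgroup.closure_le _).2 ?_
      rintro _ ⟨u, hu, rfl⟩
      obtain ⟨hI, he⟩ := emb_tv hF hu
      refine Subgroup.subset_closure ⟨_, hI, ?_, he⟩
      simp [Cfsg.hermForm, Fin.sum_univ_six, p1, Fin.append, Fin.addCases]
    exact hle hb
  have hkm : k ∈ perpTv hF := hb ▸ hbmem b
  rw [show g = r * k by rw [hk]; group]
  exact mul_mem (hle hr) hkm

end Cfsg.Agent.U62Mult
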