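/-
Lifted transvections in a perfect central extension of SU(6,2) with 2-group kernel.

Main result (namespace `Cfsg.Agent.U62Mult`): `exists_ext`.

The commutator of the lifts of two orthogonal transvections is a constant of square one, hence trivial
by the five point relation. So the preimage of the stabiliser of a point centralises the lift of its
transvection, and conjugation gives equivariant lifts, normalised by the five point relation.
-/
import Cfsg.Agent.Lib.U62Mult.StabGen

set_option autoImplicit false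

namespace Cfsg.Agent.U62Mult

open Cfsg.Agent.Unitary Cfsg.Agent.U62Cover Cfsg.Agent.ThreeTransSU
open scoped commutatorElement

variable {F : Type*} [Field F] [Fintype F] {B : Type*} [Group B] {ψ : B →* Cfsg.SU 6 F 2}

theorem comm_congr (hc : ψ.ker ≤ Subgroup.center B) {a a' b b' : B} (ha : ψ a = ψ a') (hb : ψ b = ψ b') :
    ⁅a, b⁆ = ⁅a', b'⁆ := by
  have key : ∀ {x x' y : B}, ψ x = ψ x' → ⁅x, y⁆ = ⁅x', y⁆ := by
    intro x x' y h
    have hk : x'⁻¹ * x ∈ ψ.ker := by rw [MonoidHom.mem_ker, map_mul, map_inv, h, inv_mul_cancel]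
    have hz := Subgroup.mem_center_iff.1 (hc hk) y
    rw [commutatorElement_def, commutatorElement_def,
      show x * y * x⁻¹ * y⁻¹ = x' * (x'⁻¹ * x * y) * (x⁻¹) * y⁻¹ by group, ← hz,
      show x' * (y * (x'⁻¹ * x)) * x⁻¹ * y⁻¹ = x' * y * x'⁻¹ * y⁻¹ by group]
  rw [key ha, ← commutatorElement_inv b a', key hb, commutatorElement_inv]

theorem conj_central (hc : ψ.ker ≤ Subgroup.center B) {k : B} (hk : ψ k = 1) (b : B) : b * k * b⁻¹ = k := by
  rw [Subgroup.mem_center_iff.1 (hc (MonoidHom.mem_ker.2 hk)) b, mul_inv_cancel_right]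

theorem eq_one_of_coprime_pow {k : B} {m n : ℕ} (hmn : Nat.Coprime m n) (hm : k ^ m = 1) (hn : k ^ n = 1) :
    k = 1 :=
  orderOf_eq_one_iff.1 (Nat.dvd_one.1 (hmn ▸ Nat.dvd_gcd (orderOf_dvd_of_pow_eq_one hm)
    (orderOf_dvd_of_pow_eq_one hn)))

theorem line_orth_p3 (hF : Fintype.card F = 4) {ω : F} : ∀ v ∈ line ω, OrthPair (p3 : Fin 6 → F) v := by
  obtain ⟨-, -, h33, -⟩ := herm_std (F := F) hF
  intro v hv
  obtain ⟨hvv, hv3, -⟩ := line_herm hF ω v hv
  simp only [line, List.mem_cons, List.not_mem_nil, or_false] at hv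
  refine ⟨⟨fun h => ?_, h33⟩, ⟨fun h => ?_, hvv⟩, (hf_eq_zero_symm hF).1 hv3, fun c h => ?_⟩
  · simpa [p3] using congrFun h 4
  · subst h
    rcases hv with h | h | h | h | h
    · simpa [p1, p2, pt] using congrFun h 0
    · simpa [p1, p2, pt] using congrFun h 2
    all_goals simpa [p1, p2, pt] using congrFun h 0
  · subst h
    rcases hv with h | h | h | h | h
    · simpa [p1, p2, p3, pt] using congrFun h 0
    · simpa [p1, p2, p3, pt] using congrFun h 2
    all_goals simpa [p1, p2, p3, pt] using congrFun h 0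

/-- Lifts of orthogonal transvections commute. -/
theorem lifts_commute (hF : Fintype.card F = 4) (hs : Function.Surjective ψ) (hc : ψ.ker ≤ Subgroup.center B)
    (a : (Fin 6 → F) → B) (ha : ∀ v, ψ (a v) = tv hF v) {u w : Fin 6 → F} (h : OrthPair u w) :
    Commute (a u) (a w) := by
  have hker : ∀ {u w : Fin 6 → F}, OrthPair u w → ψ ⁅a u, a w⁆ = 1 := by
    intro u w h
    rw [map_commutatorElement, ha, ha, commutatorElement_eq_one_iff_commute]
    exact (tv_comm_iff hF h.1 h.2.1).2 ((hf_eq_zero_symm hF).1 h.2.2.1)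
  set c := ⁅a (p1 : Fin 6 → F), a p2⁆ with hcdef
  have h0 := orthPair_std (F := F) hF
  have hconst : ∀ {u w : Fin 6 → F}, OrthPair u w → ⁅a u, a w⁆ = c := by
    intro u w h
    obtain ⟨g, hgu, hgw⟩ := exists_act_two hF (by norm_num) h0 h
    obtain ⟨b, rfl⟩ := hs g
    have e1 : ψ (b * a p1 * b⁻¹) = ψ (a u) := by
      rw [map_mul, map_mul, map_inv, ha, ha, tv_conj_inv hF _ h0.1.2, hgu]
    have e2 : ψ (b * a p2 * b⁻¹) = ψ (a w) := by
      rw [map_mul, map_mul, map_inv, ha, ha, tv_conj_inv hF _ h0.2.1.2, hgw]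
    rw [← comm_congr hc e1 e2, show ⁅b * a p1 * b⁻¹, b * a p2 * b⁻¹⁆ = b * c * b⁻¹ by
      rw [hcdef, commutatorElement_def, commutatorElement_def]; group, conj_central hc (hker h0)]
  have hc2 : c ^ 2 = 1 := by
    have e := hconst (h0.symm hF)
    rw [← commutatorElement_inv, ← hcdef] at e
    rw [pow_two]
    nth_rewrite 1 [← e]
    exact inv_mul_cancel c
  have hcz : ∀ x, x * c = c * x := Subgroup.mem_center_iff.1 (hc (MonoidHom.mem_ker.2 (hker h0)))
  obtain ⟨ω, -, hω⟩ := exists_omega hF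
  have hmove : ∀ L : List (Fin 6 → F), (∀ v ∈ L, v ∈ line ω) →
      a p3 * (L.map a).prod = c ^ L.length * ((L.map a).prod * a p3) := by
    intro L
    induction L with
    | nil => simp
    | cons v L ih =>
      intro hL
      have e : a p3 * a v = c * (a v * a p3) := by
        rw [← hconst (line_orth_p3 hF v (hL v List.mem_cons_self)), commutatorElement_def]; group
      have hcv : a v * c ^ L.length = c ^ L.length * a v := (Commute.pow_right (hcz (a v) :) _)
      simp only [List.map_cons, List.prod_cons, List.length_cons]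
      calc a p3 * (a v * (L.map a).prod) = c * (a v * (a p3 * (L.map a).prod)) := by
            rw [← mul_assoc, e]; simp only [mul_assoc]
        _ = c * (a v * c ^ L.length * ((L.map a).prod * a p3)) := by
            rw [ih fun x hx => hL x (List.mem_cons_of_mem _ hx)]; simp only [mul_assoc]
        _ = _ := by rw [hcv, pow_succ']; simp only [mul_assoc]
  have hP : ((line ω).map a).prod ∈ ψ.ker := by
    rw [MonoidHom.mem_ker, map_list_prod, List.map_map, show (⇑ψ ∘ a) = tv hF from funext ha, line_prod hF hω]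
  have h5 : c ^ 5 = 1 := by
    have h1 := hmove (line ω) fun v hv => hv
    rw [Subgroup.mem_center_iff.1 (hc hP) (a p3)] at h1
    exact mul_eq_right.1 h1.symm
  rw [← commutatorElement_eq_one_iff_commute, hconst h]
  exact eq_one_of_coprime_pow (by norm_num) hc2 h5

theorem exists_scale_elt (hF : Fintype.card F = 4) {ω : F} (hω : ω ^ 2 = ω + 1) :
    ∃ h : Cfsg.SU 6 F 2, h ^ 3 = 1 ∧ act h (p1 : Fin 6 → F) = ω • p1 := by
  have h2 := two_eq_zero hF
  let u1 : Fin 6 → F := ![1, 0, 0, 1, 0, 0]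
  let u2 : Fin 6 → F := ![1, 0, 0, ω, 0, 0]
  let w1 : Fin 6 → F := ![0, 1, 0, 0, 1, 0]
  let w2 : Fin 6 → F := ![0, 1, 0, 0, ω, 0]
  have i1 : hf u1 u1 = 0 := by simp [u1, Cfsg.hermForm, Fin.sum_univ_six]; grind
  have i2 : hf u2 u2 = 0 := by simp [u2, Cfsg.hermForm, Fin.sum_univ_six]; grind
  have j1 : hf w1 w1 = 0 := by simp [w1, Cfsg.hermForm, Fin.sum_univ_six]; grind
  have j2 : hf w2 w2 = 0 := by simp [w2, Cfsg.hermForm, Fin.sum_univ_six]; grind
  refine ⟨(tv hF u1 * tv hF u2) * (tv hF w1 * tv hF w2), act_ext fun x => ?_, ?_⟩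
  · simp only [pow_succ, pow_zero, one_mul, act_mul, act_one, act_tv hF i1, act_tv hF i2, act_tv hF j1,
      act_tv hF j2]
    funext i
    fin_cases i <;> simp [u1, u2, w1, w2, Cfsg.hermForm, Fin.sum_univ_six, Matrix.vecHead, Matrix.vecTail] <;> grind
  · simp only [act_mul, act_tv hF i1, act_tv hF i2, act_tv hF j1, act_tv hF j2]
    funext i
    fin_cases i <;> simp [u1, u2, w1, w2, p1, Cfsg.hermForm, Fin.sum_univ_six] <;> grind

theorem scalar_cases (hF : Fintype.card F = 4) {ω c : F} (hω : ω ^ 2 = ω + 1) (hc : c ≠ 0) :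
    ∃ i : ℕ, c = ω ^ i := by
  have h2 := two_eq_zero hF
  have h3 := pow_three hF hc
  have e : (c - 1) * ((c - ω) * (c - ω ^ 2)) = 0 := by grind
  rcases mul_eq_zero.1 e with e | e
  · exact ⟨0, by rw [pow_zero]; exact sub_eq_zero.1 e⟩
  rcases mul_eq_zero.1 e with e | e
  · exact ⟨1, by rw [pow_one]; exact sub_eq_zero.1 e⟩
  · exact ⟨2, sub_eq_zero.1 e⟩

/-- The preimage of the stabiliser of the point `p1` centralises the lift of its transvection. -/
theorem stab_commute (hF : Fintype.card F = 4) (hs : Function.Surjective ψ) (hc : ψ.ker ≤ Subgroup.center B)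
    (a : (Fin 6 → F) → B) (ha : ∀ v, ψ (a v) = tv hF v) {b : B} {c : F}
    (hb : act (ψ b) (p1 : Fin 6 → F) = c • p1) : Commute b (a p1) := by
  set C : Subgroup B := Subgroup.centralizer ({a p1} : Set B) with hC
  have hker : ψ.ker ≤ C := hc.trans (Subgroup.center_le_centralizer _)
  have hv : Iso (p1 : Fin 6 → F) := (orthPair_std hF).1
  have hfix : ∀ g : B, act (ψ g) (p1 : Fin 6 → F) = p1 → g ∈ C := by
    intro g hg
    have hmem := stab_le_closure hF _ hg
    have hle : perpTv hF ≤ C.map ψ := by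
      refine (Subgroup.closure_le _).2 ?_
      rintro _ ⟨u, hu, hup, rfl⟩
      by_cases hprop : ∃ d : F, u = d • (p1 : Fin 6 → F)
      · obtain ⟨d, rfl⟩ := hprop
        have hd : d ≠ 0 := fun h => hu.1 (by rw [h, zero_smul])
        exact ⟨a p1, Subgroup.mem_centralizer_singleton_iff.2 rfl, by rw [ha, tv_smul hF hv hd]⟩
      · refine ⟨a u, Subgroup.mem_centralizer_singleton_iff.2 ?_, ha u⟩
        exact (lifts_commute hF hs hc a ha
          ⟨hv, hu, (hf_eq_zero_symm hF).1 hup, fun d hd => hprop ⟨d, hd⟩⟩).eq.symm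
    obtain ⟨x, hx, hxe⟩ := hle hmem
    have : x⁻¹ * g ∈ ψ.ker := by rw [MonoidHom.mem_ker, map_mul, map_inv, hxe, inv_mul_cancel]
    rw [show g = x * (x⁻¹ * g) by group]
    exact mul_mem hx (hker this)
  obtain ⟨ω, -, hω⟩ := exists_omega hF
  obtain ⟨h, hh3, hhv⟩ := exists_scale_elt hF hω
  obtain ⟨h, rfl⟩ := hs h
  have hk : ψ ⁅h, a p1⁆ = 1 := by
    rw [map_commutatorElement, ha, commutatorElement_def, tv_conj_inv hF _ hv.2, hhv, tv_smul hF hv
      (fun h0 : ω = 0 => by rw [h0] at hω; simp at hω), mul_inv_cancel]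
  set k := ⁅h, a p1⁆ with hkdef
  have hkz : ∀ x, x * k = k * x := Subgroup.mem_center_iff.1 (hc (MonoidHom.mem_ker.2 hk))
  have hk2 : k ^ 2 = 1 := by
    have haa : a p1 * a p1 ∈ ψ.ker := by rw [MonoidHom.mem_ker, map_mul, ha, tv_sq hF hv.2]
    have e : h * a p1 * h⁻¹ = k * a p1 := by rw [hkdef, commutatorElement_def]; group
    have e2 := conj_central hc (MonoidHom.mem_ker.1 haa) h
    rw [show h * (a p1 * a p1) * h⁻¹ = h * a p1 * h⁻¹ * (h * a p1 * h⁻¹) by group, e,
      show k * a p1 * (k * a p1) = k * (a p1 * k) * a p1 by group, hkz,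
      show k * (k * a p1) * a p1 = k ^ 2 * (a p1 * a p1) by rw [pow_two]; group] at e2
    exact mul_eq_right.1 e2
  have hk3 : k ^ 3 = 1 := by
    have e : ∀ m : ℕ, h ^ m * a p1 = k ^ m * (a p1 * h ^ m) := by
      intro m
      induction m with
      | zero => simp
      | succ m ih =>
        have e1 : h * a p1 = k * (a p1 * h) := by rw [hkdef, commutatorElement_def]; group
        have hkm : h * k ^ m = k ^ m * h := (Commute.pow_right (hkz h :) _)
        calc h ^ (m + 1) * a p1 = h * (h ^ m * a p1) := by rw [pow_succ', mul_assoc]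
          _ = h * k ^ m * (a p1 * h ^ m) := by rw [ih, ← mul_assoc]
          _ = k ^ m * (h * a p1) * h ^ m := by rw [hkm]; simp only [mul_assoc]
          _ = _ := by rw [e1, pow_succ k, pow_succ' h]; simp only [mul_assoc]
    have e3 := e 3
    rw [Subgroup.mem_center_iff.1 (hc (show h ^ 3 ∈ ψ.ker by rw [MonoidHom.mem_ker, map_pow, hh3])) (a p1)] at e3
    exact mul_eq_right.1 e3.symm
  have hhC : h ∈ C := Subgroup.mem_centralizer_singleton_iff.2
    (commutatorElement_eq_one_iff_commute.1 (eq_one_of_coprime_pow (by norm_num) hk2 hk3)).eq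
  have hc0 : c ≠ 0 := fun h0 => hv.1 (by
    rw [h0, zero_smul, ← act_zero (ψ b)] at hb; exact (act_eq_iff _).1 hb)
  obtain ⟨i, rfl⟩ := scalar_cases hF hω hc0
  have hpow : ∀ i : ℕ, act (ψ (h ^ i)) (p1 : Fin 6 → F) = ω ^ i • p1 := by
    intro i
    induction i with
    | zero => simp [act_one]
    | succ i ih => rw [pow_succ', map_mul, act_mul, ih, act_smul, hhv, smul_smul, ← pow_succ]
  have : (h ^ i)⁻¹ * b ∈ C := hfix _ (by rw [map_mul, map_inv, act_mul, hb, ← hpow i, act_inv_act])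
  have hbC : b ∈ C := by
    rw [show b = h ^ i * ((h ^ i)⁻¹ * b) by group]
    exact mul_mem (pow_mem hhC i) this
  exact Subgroup.mem_centralizer_singleton_iff.1 hbC

/-- A perfect central extension with 2-group kernel has lifted transvections. -/
theorem exists_ext (hF : Fintype.card F = 4) (hs : Function.Surjective ψ) (hc : ψ.ker ≤ Subgroup.center B)
    (hk : IsPGroup 2 ψ.ker) (hperf : commutator B = ⊤) : ∃ s : (Fin 6 → F) → B, Ext ψ s := by
  classical
  set a : (Fin 6 → F) → B := fun v => Function.surjInv hs (tv hF v) with hadef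
  have ha : ∀ v, ψ (a v) = tv hF v := fun v => Function.surjInv_eq hs _
  have h0 := orthPair_std (F := F) hF
  have hex : ∀ v : Fin 6 → F, ∃ b : B, Iso v → act (ψ b) (p1 : Fin 6 → F) = v := fun v => by
    by_cases hv : Iso v
    · obtain ⟨g, hg⟩ := exists_act hF (by norm_num) h0.1 hv
      obtain ⟨b, rfl⟩ := hs g
      exact ⟨b, fun _ => hg⟩
    · exact ⟨1, fun h => absurd h hv⟩
  choose mv hmv using hex
  set t : (Fin 6 → F) → B := fun v => mv v * a p1 * (mv v)⁻¹ with htdef
  have hwd : ∀ (b : B) (v : Fin 6 → F), Iso v → ∀ c : F, act (ψ b) (p1 : Fin 6 → F) = c • v →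
      b * a p1 * b⁻¹ = t v := by
    intro b v hv c hb
    have : act (ψ ((mv v)⁻¹ * b)) (p1 : Fin 6 → F) = c • p1 := by
      have e := act_inv_act (ψ (mv v)) (p1 : Fin 6 → F)
      rw [hmv v hv] at e
      rw [map_mul, map_inv, act_mul, hb, act_smul, e]
    have hcm := (stab_commute hF hs hc a ha this).eq
    rw [htdef]
    simp only []
    rw [show b * a p1 * b⁻¹ = mv v * ((mv v)⁻¹ * b * a p1) * b⁻¹ by group, hcm]
    group
  have htequiv : ∀ b v, Iso v → b * t v * b⁻¹ = t (act (ψ b) v) := by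
    intro b v hv
    rw [← hwd (b * mv v) _ (hv.act _) 1 (by rw [map_mul, act_mul, hmv v hv, one_smul])]
    simp only [htdef]; group
  have htmap : ∀ v, Iso v → ψ (t v) = tv hF v := fun v hv => by
    simp only [htdef, map_mul, map_inv, ha]
    rw [tv_conj_inv hF _ h0.1.2, hmv v hv]
  obtain ⟨x, hx⟩ : ∃ x, x = a (p1 : Fin 6 → F) * a p1 := ⟨_, rfl⟩
  have hxk : ψ x = 1 := by rw [hx, map_mul, ha, tv_sq hF h0.1.2]
  have htsq : ∀ v, t v * t v = x := fun v => by
    simp only [htdef]
    rw [show mv v * a p1 * (mv v)⁻¹ * (mv v * a p1 * (mv v)⁻¹) = mv v * (a p1 * a p1) * (mv v)⁻¹ by group,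
      ← hx, conj_central hc hxk]
  obtain ⟨ω, -, hω⟩ := exists_omega hF
  obtain ⟨P, hP⟩ : ∃ P, P = lineProd t ω (p1 : Fin 6 → F) p2 := ⟨_, rfl⟩
  have hI : ∀ d : F, Iso ((p1 : Fin 6 → F) + d • p2) := fun d => ((h0.symm hF).shift hF d).2.1
  have hI1 : Iso ((p1 : Fin 6 → F) + p2) := by simpa using hI 1
  have hPk : ψ P = 1 := by
    have e := lineProd_tv (F := F) hF hω
    simp only [lineProd] at e
    rw [hP, lineProd, map_mul, map_mul, map_mul, map_mul, htmap _ h0.1, htmap _ h0.2.1, htmap _ hI1,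
      htmap _ (hI ω), htmap _ (hI (ω ^ 2)), e]
  have hcc : ∀ u w : Fin 6 → F, Iso u → Iso w → hf w u = 0 → Commute (t u) (t w) := by
    intro u w hu hw h
    have e := htequiv (t u) w hw
    rw [htmap u hu, act_tv_of_orth hF hu.2 h] at e
    exact mul_inv_eq_iff_eq_mul.1 e
  set k := P⁻¹ * (x * x) with hkdef
  have hkk : ψ k = 1 := by rw [hkdef, map_mul, map_inv, map_mul, hxk, hPk]; simp
  have hkz : ∀ y, Commute k y := fun y => (Subgroup.mem_center_iff.1 (hc (MonoidHom.mem_ker.2 hkk)) y).symm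
  have hxz : ∀ y, Commute x y := fun y => (Subgroup.mem_center_iff.1 (hc (MonoidHom.mem_ker.2 hxk)) y).symm
  have hPz : ∀ y, Commute P y := fun y => (Subgroup.mem_center_iff.1 (hc (MonoidHom.mem_ker.2 hPk)) y).symm
  -- the square of the line product
  have hP2 : P * P = x ^ 5 := by
    have m : ∀ (d e : F), hf ((p1 : Fin 6 → F) + d • p2) (p1 + e • p2) = 0 := fun d e => by
      rw [hf_add_left hF, hf_add_right hF, hf_add_right hF, hf_smul_left hF, hf_smul_left hF,
        hf_smul_right hF, hf_smul_right hF, h0.1.2, h0.2.1.2, h0.2.2.1, (hf_eq_zero_symm hF).1 h0.2.2.1]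
      simp
    have m2 : ∀ d : F, hf ((p1 : Fin 6 → F) + d • p2) p2 = 0 := fun d => by
      rw [hf_add_left hF, hf_smul_left hF, h0.2.1.2, h0.2.2.1]; simp
    have m0 : ∀ d : F, hf ((p1 : Fin 6 → F) + d • p2) p1 = 0 := fun d => by simpa using m d 0
    have c1 : Commute (t p1) (t p2) := hcc _ _ h0.1 h0.2.1 ((hf_eq_zero_symm hF).1 h0.2.2.1)
    have c2 := fun d => hcc (p1 : Fin 6 → F) _ h0.1 (hI d) (m0 d)
    have c3 := fun d => hcc (p2 : Fin 6 → F) _ h0.2.1 (hI d) (m2 d)
    have c4 := fun d e => hcc _ _ (hI e) (hI d) (m d e)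
    have e1 : (p1 : Fin 6 → F) + p2 = p1 + (1 : F) • p2 := by rw [one_smul]
    rw [hP, lineProd, e1]
    rw [((c2 (ω ^ 2)).mul_left (c3 _) |>.mul_left (c4 _ _) |>.mul_left (c4 _ _)).symm.mul_mul_mul_comm,
      ((c2 ω).mul_left (c3 _) |>.mul_left (c4 _ _)).symm.mul_mul_mul_comm,
      ((c2 1).mul_left (c3 _)).symm.mul_mul_mul_comm, c1.symm.mul_mul_mul_comm]
    simp only [htsq, pow_succ, pow_zero, one_mul]
  have hk2 : k * k = x⁻¹ := by
    rw [hkdef, ((hPz (x * x)).inv_left.symm).mul_mul_mul_comm, ← mul_inv_rev, hP2]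
    group
  have hk5 : P * k ^ 5 = 1 := by
    rw [show k ^ 5 = k * (k * k) * (k * k) by simp only [pow_succ, pow_zero, one_mul, mul_assoc],
      hk2, hkdef]
    group
  refine ⟨fun v => t v * k, ?_⟩
  have hmap : ∀ v, Iso v → ψ (t v * k) = tv hF v := fun v hv => by rw [map_mul, htmap v hv, hkk, mul_one]
  refine
    { card := hF, five := by norm_num, surj := hs, ker := hk, map_s := hmap, sq := ?_, smul := ?_,
      equiv := ?_, gen := ?_, line := ⟨p1, p2, h0, fun ω' hω' => ?_⟩ }
  · intro v _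
    show t v * k * (t v * k) = 1
    rw [(hkz (t v)).mul_mul_mul_comm, htsq, hk2, mul_inv_cancel]
  · intro v c hv hcne
    show t (c • v) * k = t v * k
    rw [← hwd (mv (c • v)) v hv c (hmv _ (hv.smul hF hcne))]
  · intro b v hv
    show b * (t v * k) * b⁻¹ = t (act (ψ b) v) * k
    rw [← htequiv b v hv, show b * (t v * k) * b⁻¹ = b * t v * (k * b⁻¹) by group, (hkz b⁻¹).eq, ← mul_assoc]
  · set H := Subgroup.closure {b | ∃ v, Iso v ∧ b = t v * k} with hH
    have hmapH : ∀ g, ∃ y ∈ H, ψ y = g := by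
      have : (⊤ : Subgroup (Cfsg.SU 6 F 2)) ≤ H.map ψ := by
        rw [← closure_tv hF (by norm_num : 4 ≤ 6), Subgroup.closure_le]
        rintro _ ⟨v, hv, rfl⟩
        exact ⟨_, Subgroup.subset_closure ⟨v, hv, rfl⟩, hmap v hv⟩
      exact fun g => this (Subgroup.mem_top g)
    rw [eq_top_iff, ← hperf, commutator_def, Subgroup.commutator_le]
    intro p _ q _
    obtain ⟨p', hp', hpe⟩ := hmapH (ψ p)
    obtain ⟨q', hq', hqe⟩ := hmapH (ψ q)
    rw [comm_congr hc hpe.symm hqe.symm, commutatorElement_def]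
    exact mul_mem (mul_mem (mul_mem hp' hq') (inv_mem hp')) (inv_mem hq')
  · have hPe : lineProd t ω' (p1 : Fin 6 → F) p2 = P := by
      rw [hP]
      have e : (ω' - ω) * (ω' - ω ^ 2) = 0 := by
        have h2 := two_eq_zero hF
        grind
      rcases mul_eq_zero.1 e with e | e <;> rw [sub_eq_zero] at e
      · rw [e]
      · subst e
        have h4 : (ω ^ 2) ^ 2 = ω := pow_q_pow_q (card_sq hF) ω
        simp only [lineProd, h4]
        have c := hcc _ _ (hI (ω ^ 2)) (hI ω) (by
          rw [hf_add_left hF, hf_add_right hF, hf_add_right hF, hf_smul_left hF, hf_smul_left hF,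
            hf_smul_right hF, hf_smul_right hF, h0.1.2, h0.2.1.2, h0.2.2.1,
            (hf_eq_zero_symm hF).1 h0.2.2.1]
          simp)
        rw [mul_assoc, c.eq, ← mul_assoc]
    simp only [lineProd] at hPe ⊢
    rw [(hkz _).mul_mul_mul_comm,
      ((hkz _).mul_left (hkz _)).mul_mul_mul_comm, ((hkz _).mul_left (hkz _) |>.mul_left (hkz _)).mul_mul_mul_comm,
      ((hkz _).mul_left (hkz _) |>.mul_left (hkz _) |>.mul_left (hkz _)).mul_mul_mul_comm, hPe]
    rw [← hk5]
    simp only [pow_succ, pow_zero, one_mul, mul_assoc]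

end Cfsg.Agent.U62Mult
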