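/-
The kernel of an extension of SU(6,2) with lifted transvections lies in the radical of a point.

Main results (namespace `Cfsg.Agent.U62Mult`): `ker_bound`: the kernel has order at most 4 and exponent 2.
-/
import Cfsg.Agent.Lib.U62Mult.TwoLift
import Cfsg.Agent.Lib.ThreeTransSU.CentralExt
import Cfsg.Agent.Lib.ThreeTransSU.GensCert

set_option autoImplicit false

namespace Cfsg.Agent.U62Mult

open Cfsg.Agent.Unitary Cfsg.Agent.U62Cover Cfsg.Agent.ThreeTransSU
open scoped commutatorElement Matrix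

variable {F : Type*} [Field F] [Fintype F] {B : Type*} [Group B] {ψ : B →* Cfsg.SU 6 F 2}
  {s : (Fin 6 → F) → B}

/-- Conjugation carries radicals to radicals. -/
theorem radical_map (E : Ext ψ s) {v : Fin 6 → F} (hv : Iso v) (b : B) :
    ∀ r ∈ E.radical v, b * r * b⁻¹ ∈ E.radical (act (ψ b) v) := by
  intro r hr
  induction hr using Subgroup.closure_induction with
  | mem p hp =>
    rcases hp with ⟨u, c, h, rfl⟩ | hp
    · refine Subgroup.subset_closure (Or.inl ⟨act (ψ b) u, c, h.act _, ?_⟩)
      rw [Ext.rho, Ext.rho,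
        show b * (s u * s (u + c • v)) * b⁻¹ = b * s u * b⁻¹ * (b * s (u + c • v) * b⁻¹) by group,
        E.equiv b u h.2.1, E.equiv b _ (h.shift E.card c).2.1, act_add, act_smul]
    · rw [Set.mem_singleton_iff] at hp
      rw [hp, E.equiv b v hv]
      exact Subgroup.subset_closure (Or.inr rfl)
  | one => simp
  | mul x y _ _ hx hy =>
    rw [show b * (x * y) * b⁻¹ = b * x * b⁻¹ * (b * y * b⁻¹) by group]; exact mul_mem hx hy
  | inv x _ hx => rw [show b * x⁻¹ * b⁻¹ = (b * x * b⁻¹)⁻¹ by group]; exact inv_mem hx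

/-- The part of the kernel in the radical. -/
def kPart (E : Ext ψ s) (v : Fin 6 → F) : Subgroup B := E.radical v ⊓ ψ.ker

theorem kPart_le (E : Ext ψ s) {u v : Fin 6 → F} (hu : Iso u) (hv : Iso v) : kPart E u ≤ kPart E v := by
  rintro k ⟨hk, hkk⟩
  refine ⟨?_, hkk⟩
  obtain ⟨g, hg⟩ := exists_act E.card (by norm_num) hu hv
  obtain ⟨b, rfl⟩ := E.surj g
  have h1 := radical_map E hu b k hk
  rwa [hg, Subgroup.mem_center_iff.1 (E.central hkk) b, mul_inv_cancel_right] at h1

/-- An element of the radical fixing a partner lies in the kernel. -/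
theorem mem_ker_of_fix (E : Ext ψ s) {v z : Fin 6 → F} (hv : Iso v) (hz : Partner v z) {r : B}
    (hr : r ∈ E.radical v) (hrz : act (ψ r) z = z) : r ∈ ψ.ker := by
  have hF := E.card
  obtain ⟨hrv, hrx⟩ := E.radical_spec hv hr
  refine MonoidHom.mem_ker.2 (act_ext fun x => ?_)
  rw [act_one]
  set y := x + hf x v • z with hy
  have hyv : hf y v = 0 := by
    rw [hy, hf_add_left hF, hf_smul_left hF, hf_eq_one_symm hF hz.2, mul_one, add_self hF]
  obtain ⟨c, hc⟩ := hrx y hyv
  have h1 := act_hf (ψ r) y z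
  rw [hc, hrz, hf_add_left hF, hf_smul_left hF, hz.2, mul_one, add_eq_left] at h1
  rw [h1, zero_smul, add_zero] at hc
  rw [show x = y + hf x v • z by rw [hy, vadd_cancel hF], act_add, act_smul, hc, hrz]

theorem eq_smul_of_perp (hF : Fintype.card F = 4) {v z : Fin 6 → F} (hv : Iso v) (hz : Partner v z)
    {y : Fin 6 → F} (hyv : hf y v = 0) (hy : ∀ x, hf x v = 0 → hf y x = 0) :
    y = hf y z • v := by
  obtain ⟨w, hw, hwv, hwz, hexp⟩ := exists_frame hF (m := 4) rfl hv hz
  set d := hf y z with hd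
  set y' := y + d • v with hy'
  have h1 : hf y' v = 0 := by rw [hy', hf_add_left hF, hf_smul_left hF, hyv, hv.2]; simp
  have h2 : hf y' z = 0 := by rw [hy', hf_add_left hF, hf_smul_left hF, hz.2, mul_one, ← hd, add_self hF]
  have h3 : y' = 0 := by
    rw [hexp y' h1 h2]
    refine Finset.sum_eq_zero fun i _ => ?_
    rw [show hf y' (w i) = 0 by
      rw [hy', hf_add_left hF, hf_smul_left hF, hy _ (hwv i), (hf_eq_zero_symm hF).1 (hwv i)]; simp, zero_smul]
  exact funext fun i => (eq_iff_add_eq_zero hF).2 (congrFun h3 i)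

theorem isPGroup_radical (E : Ext ψ s) {v : Fin 6 → F} (hv : Iso v) : IsPGroup 2 (E.radical v) := by
  have hF := E.card
  obtain ⟨z, hz, -⟩ := exists_partner hF (k := 0) (b := Fin.elim0) linearIndependent_empty_type hv
    (fun i => i.elim0) (by simp [Submodule.span_empty, hv.1])
  intro r
  obtain ⟨r, hr⟩ := r
  set q := r * r with hqdef
  have hq : q ∈ E.radical v := mul_mem hr hr
  have hqv := (E.radical_spec hv hq).1
  have hqfix : ∀ x, hf x v = 0 → act (ψ q) x = x := by
    intro x hx
    obtain ⟨c, hc⟩ := (E.radical_spec hv hr).2 x hx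
    rw [hqdef, map_mul, act_mul, hc, act_add, act_smul, (E.radical_spec hv hr).1, hc, vadd_cancel hF]
  obtain ⟨d, hd⟩ : ∃ d, act (ψ q) z + z = d • v := by
    refine ⟨_, eq_smul_of_perp hF hv hz ?_ fun x hx => ?_⟩
    · rw [hf_add_left hF]
      nth_rewrite 1 [← hqv]
      rw [act_hf, add_self hF]
    · rw [hf_add_left hF]
      nth_rewrite 1 [← hqfix x hx]
      rw [act_hf, add_self hF]
  have hqz : act (ψ q) z = z + d • v := by rw [← hd, add_comm z, vadd_cancel hF]
  have h4 : q * q ∈ ψ.ker := mem_ker_of_fix E hv hz (mul_mem hq hq) (by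
    rw [map_mul, act_mul, hqz, act_add, act_smul, hqv, hqz, vadd_cancel hF])
  obtain ⟨k, hk⟩ := E.ker ⟨q * q, h4⟩
  refine ⟨2 + k, Subtype.ext ?_⟩
  have h5 := congrArg Subtype.val hk
  simp only [SubgroupClass.coe_pow, OneMemClass.coe_one] at h5 ⊢
  rw [pow_add, pow_mul, show r ^ 2 ^ 2 = q * q by
    rw [hqdef]; simp only [show 2 ^ 2 = 4 from rfl, pow_succ, pow_zero, one_mul, mul_assoc]]
  exact h5

/-- Modulo `s v` the radical is elementary abelian. -/
theorem radical_sq (E : Ext ψ s) {v : Fin 6 → F} (hv : Iso v) :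
    ∀ r ∈ E.radical v, r * r = 1 ∨ r * r = s v := by
  have hF := E.card
  set Z := fun x : B => x = 1 ∨ x = s v with hZ
  have hZmul : ∀ {x y}, Z x → Z y → Z (x * y) := by
    rintro x y (rfl | rfl) (rfl | rfl)
    exacts [Or.inl (one_mul 1), Or.inr (one_mul _), Or.inr (mul_one _), Or.inl (E.sq v hv)]
  have hcomm : ∀ g ∈ E.radical v, ∀ r ∈ E.radical v, Z ⁅g, r⁆ := by
    intro g hg r hr
    induction hr using Subgroup.closure_induction with
    | mem p hp =>
      rcases hp with ⟨u, b, h, rfl⟩ | hp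
      · obtain ⟨c, hc⟩ := (E.radical_spec hv hg).2 u ((hf_eq_zero_symm hF).1 h.2.2.1)
        rcases E.rho_move h (E.radical_spec hv hg).1 hc b with e | e
        · left; rw [commutatorElement_def, e, mul_inv_cancel]
        · right; rw [commutatorElement_def, e, mul_inv_cancel_right]
      · rw [Set.mem_singleton_iff] at hp
        left; rw [hp, commutatorElement_eq_one_iff_commute]; exact E.commute_radical hv hg
    | one => left; exact commutatorElement_eq_one_iff_commute.2 (Commute.one_right g)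
    | mul x y hx _ ihx ihy =>
      have e : ⁅g, x * y⁆ = ⁅g, x⁆ * ⁅g, y⁆ := by
        have hc : Commute x ⁅g, y⁆ := by
          rcases ihy with e | e
          · rw [e]; exact Commute.one_right x
          · rw [e]; exact E.commute_radical hv hx
        rw [show ⁅g, x * y⁆ = ⁅g, x⁆ * (x * ⁅g, y⁆ * x⁻¹) by
          simp only [commutatorElement_def]; group, hc.eq, mul_inv_cancel_right]
      rw [e]; exact hZmul ihx ihy
    | inv x hx ihx =>
      have e : ⁅g, x⁻¹⁆ = x⁻¹ * ⁅g, x⁆⁻¹ * x := by simp only [commutatorElement_def]; group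
      rcases ihx with e' | e'
      · left; rw [e, e']; group
      · right
        rw [e, e', E.s_inv hv, mul_assoc, ← (E.commute_radical hv hx).eq, inv_mul_cancel_left]
  intro r hr
  show Z (r * r)
  induction hr using Subgroup.closure_induction with
  | mem p hp =>
    left
    rcases hp with ⟨u, b, h, rfl⟩ | hp
    · nth_rewrite 1 [← E.rho_inv h b]; exact inv_mul_cancel _
    · rw [Set.mem_singleton_iff] at hp; rw [hp, E.sq v hv]
  | one => left; exact one_mul 1
  | mul x y hx hy ihx ihy =>
    have hc := hcomm y hy x hx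
    have hcx : Commute x ⁅y, x⁆ := by
      rcases hc with e | e
      · rw [e]; exact Commute.one_right x
      · rw [e]; exact E.commute_radical hv hx
    rw [show x * y * (x * y) = x * ⁅y, x⁆ * (x * (y * y)) by rw [commutatorElement_def]; group, hcx.eq,
      show ⁅y, x⁆ * x * (x * (y * y)) = ⁅y, x⁆ * (x * x) * (y * y) by group]
    exact hZmul (hZmul hc ihx) ihy
  | inv x _ ihx =>
    rcases ihx with e | e
    · left; rw [← mul_inv_rev, e, inv_one]
    · right; rw [← mul_inv_rev, e, E.s_inv hv]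

theorem kPart_sq (E : Ext ψ s) {v : Fin 6 → F} (hv : Iso v) {k : B} (hk : k ∈ kPart E v) : k * k = 1 := by
  rcases radical_sq E hv k hk.1 with e | e
  · exact e
  · exfalso
    have h := congrArg ψ e
    rw [map_mul, MonoidHom.mem_ker.1 hk.2, one_mul, E.map_s v hv] at h
    exact tv_ne_one E.card hv h.symm

theorem card_kPart (E : Ext ψ s) [Finite B] {v : Fin 6 → F} (hv : Iso v) : Nat.card (kPart E v) ≤ 4 := by
  classical
  have hF := E.card
  have hle := E.card_radical_le' (m := 4) rfl (hasGensN_four hF) hv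
  obtain ⟨z, hz, -⟩ := exists_partner hF (k := 0) (b := Fin.elim0) linearIndependent_empty_type hv
    (fun i => i.elim0) (by simp [Submodule.span_empty, hv.1])
  let φ := ψ.comp (E.radical v).subtype
  have hφ : Nat.card φ.ker = Nat.card (kPart E v) :=
    Nat.card_congr
      { toFun := fun r => ⟨r.1.1, r.1.2, r.2⟩
        invFun := fun r => ⟨⟨r.1, r.2.1⟩, r.2.2⟩
        left_inv := fun r => rfl
        right_inv := fun r => rfl }
  have hmap : ∀ g : φ.range, Partner v (act (g : Cfsg.SU 6 F 2) z) := by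
    rintro ⟨_, r, rfl⟩
    refine ⟨by rw [act_hf]; exact hz.1, ?_⟩
    have h1 := act_hf (φ r) v z
    rw [show act (φ r) v = v from (E.radical_spec hv r.2).1] at h1
    rw [h1]; exact hz.2
  have hge : 512 ≤ Nat.card φ.range := by
    refine le_trans (Ext.card_partner_ge hF (m := 4) rfl hv hz) (Nat.card_le_card_of_surjective
      (fun g => (⟨_, hmap g⟩ : {x : Fin 6 → F // Partner v x})) ?_)
    rintro ⟨x, hx⟩
    obtain ⟨r, hr, hrx⟩ := E.radical_transitive (m := 4) rfl hv hz hx
    exact ⟨⟨ψ r, ⟨r, hr⟩, rfl⟩, Subtype.ext hrx⟩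
  have hprod : Nat.card φ.ker * Nat.card φ.range = Nat.card (E.radical v) := by
    rw [← φ.ker.card_mul_index, Subgroup.index_ker]
  rw [← hφ]
  by_contra hc
  have h5 : 5 * 512 ≤ Nat.card φ.ker * Nat.card φ.range := Nat.mul_le_mul (by omega) hge
  omega

theorem even_isotropic_even (hF : Fintype.card F = 4) {k j : ℕ} (hk : k + (2 * j + 2) = 6)
    {b : Fin k → (Fin 6 → F)} (hb : Cfsg.Agent.Unitary.Orthonormal (Cfsg.hermForm 6 F 2) b) :
    2 ∣ Nat.card {v : Fin 6 → F // hf v v = 0 ∧ ∀ i, hf v (b i) = 0} := by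
  show 2 ∣ Nat.card {v : Fin 6 → F // Cfsg.hermForm 6 F 2 v v = 0 ∧ ∀ i, Cfsg.hermForm 6 F 2 v (b i) = 0}
  rw [orthonormal_next (card_sq hF) (by omega) hb, isotropic_count (card_sq hF),
    if_pos ⟨j + 1, by omega⟩]
  have : j ≤ 2 := by omega
  rw [show 6 - k = 2 * j + 2 by omega]
  interval_cases j <;> norm_num

/-- Two-subgroups fixing an orthonormal family split modulo the common part of the radicals. -/
theorem split (E : Ext ψ s) [Finite B] {v₀ : Fin 6 → F} (hv₀ : Iso v₀) :
    ∀ (j k : ℕ), k + 2 * j = 6 → ∀ b : Fin k → (Fin 6 → F),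
      Cfsg.Agent.Unitary.Orthonormal (Cfsg.hermForm 6 F 2) b →
      ∀ P : Subgroup B, IsPGroup 2 P → P ≤ E.fixSub b →
        ∃ U : Subgroup B, U ≤ E.fixSub b ∧ U ⊓ ψ.ker ≤ kPart E v₀ ∧ P ≤ ψ.ker ⊔ U := by
  classical
  have hF := E.card
  have : Fact (Nat.Prime 2) := ⟨Nat.prime_two⟩
  intro j
  induction j with
  | zero =>
    intro k hk b hb P _ hPb
    refine ⟨⊥, bot_le, by rw [bot_inf_eq]; exact bot_le, fun p hp => Subgroup.mem_sup_left ?_⟩
    refine MonoidHom.mem_ker.2 (act_ext fun x => ?_)
    rw [act_one]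
    have hsum := Cfsg.Agent.Unitary.Orthonormal.eq_sum_of_card (herm hF) hb (by simp; omega) x
    have hlin : act (ψ p) x = ∑ i, Cfsg.hermForm 6 F 2 x (b i) • act (ψ p) (b i) := by
      show U62Cover.mt (ψ p) *ᵥ x = _
      conv_lhs => rw [hsum]
      rw [Matrix.mulVec_sum]
      exact Finset.sum_congr rfl fun i _ => Matrix.mulVec_smul _ _ _
    rw [hlin]
    conv_rhs => rw [hsum]
    exact Finset.sum_congr rfl fun i _ => by rw [hPb hp i]
  | succ j ih =>
    intro k hk b hb P hP hPb
    let V0 := {v : Fin 6 → F // hf v v = 0 ∧ ∀ i, hf v (b i) = 0}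
    let inst : MulAction P V0 :=
      { smul := fun p v => ⟨act (ψ p) v.1, by rw [act_hf]; exact v.2.1, fun i => by
          rw [← hPb p.2 i, act_hf]; exact v.2.2 i⟩
        one_smul := fun v => Subtype.ext (by
          show act (ψ ((1 : P) : B)) v.1 = v.1
          rw [OneMemClass.coe_one, map_one, act_one])
        mul_smul := fun p q v => Subtype.ext (by
          show act (ψ ((p * q : P) : B)) v.1 = act (ψ p) (act (ψ q) v.1)
          rw [Subgroup.coe_mul, map_mul, act_mul]) }
    let zero0 : V0 := ⟨0, hf_zero_left hF 0, fun i => hf_zero_left hF _⟩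
    obtain ⟨⟨v, hv0, hvb⟩, hvfix, hne⟩ := hP.exists_fixed_point_of_prime_dvd_card_of_fixed_point V0
      (even_isotropic_even hF (k := k) (j := j) (by omega) hb) (a := zero0)
      (fun p => Subtype.ext (act_zero _))
    have hv : Iso v := ⟨fun h => hne (Subtype.ext h.symm), hv0⟩
    have hPv : ∀ p ∈ P, act (ψ p) v = v := fun p hp => congrArg Subtype.val (hvfix ⟨p, hp⟩)
    have hli : LinearIndependent F b := hb.linearIndependent (herm hF)
    have hnot : v ∉ Submodule.span F (Set.range b) := fun hmem => by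
      obtain ⟨c, hc⟩ := (Submodule.mem_span_range_iff_exists_fun F).1 hmem
      refine hv.1 ?_
      rw [← hc]
      refine Finset.sum_eq_zero fun i _ => ?_
      have h1 : Cfsg.hermForm 6 F 2 (∑ i, c i • b i) (b i) = c i :=
        Cfsg.Agent.Unitary.Orthonormal.coeff (herm hF) hb c i
      rw [hc, show Cfsg.hermForm 6 F 2 v (b i) = 0 from hvb i] at h1
      rw [← h1, zero_smul]
    obtain ⟨z, hz, hzb⟩ := exists_partner hF hli hv hvb hnot
    obtain ⟨ω, -, hω⟩ := exists_omega hF
    have hpo := pair_orthonormal hF hω hv hz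
    let b' : Fin (k + 2) → (Fin 6 → F) := Fin.append b (pairBasis ω v z)
    have hpb : ∀ i l, hf (pairBasis ω v z l) (b i) = 0 := fun i l => by
      fin_cases l <;> simp [pairBasis, hf_add_left hF, hf_smul_left hF, hvb i, hzb i]
    have hb' : Cfsg.Agent.Unitary.Orthonormal (Cfsg.hermForm 6 F 2) b' := by
      refine ⟨fun i => ?_, fun i l hil => ?_⟩
      · induction i using Fin.addCases with
        | left i => simpa [b'] using hb.1 i
        | right i => simpa [b'] using hpo.1 i
      · induction i using Fin.addCases with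
        | left i =>
          induction l using Fin.addCases with
          | left l =>
            simp only [b', Fin.append_left]
            exact hb.2 fun h => hil (by rw [h])
          | right l =>
            simp only [b', Fin.append_left, Fin.append_right]
            exact (hf_eq_zero_symm hF).1 (hpb i l)
        | right i =>
          induction l using Fin.addCases with
          | left l =>
            simp only [b', Fin.append_left, Fin.append_right]
            exact hpb l i
          | right l =>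
            simp only [b', Fin.append_right]
            exact hpo.2 fun h => hil (by rw [h])
    have hfix' : ∀ g : B, g ∈ E.fixSub b' →
        g ∈ E.fixSub b ∧ act (ψ g) v = v ∧ act (ψ g) z = z := by
      intro g h
      have e : ∀ l, act (ψ g) (pairBasis ω v z l) = pairBasis ω v z l := fun l => by
        simpa [b'] using h (Fin.natAdd k l)
      have e0 := e 0
      have e1 := e 1
      simp only [pairBasis, Matrix.cons_val_zero, Matrix.cons_val_one, act_add, act_smul] at e0 e1
      have hv' : act (ψ g) v = v := by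
        have e2 : (ω + ω ^ 2) • act (ψ g) v = (ω + ω ^ 2) • v := by
          calc (ω + ω ^ 2) • act (ψ g) v
              = (ω • act (ψ g) v + act (ψ g) z) + (ω ^ 2 • act (ψ g) v + act (ψ g) z) := by
                rw [add_smul, add_add_add_comm, vadd_self hF, add_zero]
            _ = (ω • v + z) + (ω ^ 2 • v + z) := by rw [e0, e1]
            _ = _ := by rw [add_smul, add_add_add_comm, vadd_self hF, add_zero]
        rw [hω, ← add_assoc, add_self hF, zero_add, one_smul, one_smul] at e2
        exact e2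
      refine ⟨fun i => by simpa [b'] using h (Fin.castAdd 2 i), hv', ?_⟩
      rw [hv', add_right_inj] at e0
      exact e0
    have hfix'' : ∀ g : B, g ∈ E.fixSub b → act (ψ g) v = v → act (ψ g) z = z → g ∈ E.fixSub b' := by
      intro g h1 h2 h3 i
      induction i using Fin.addCases with
      | left i => simpa [b'] using h1 i
      | right i => fin_cases i <;> simp [b', pairBasis, act_add, act_smul, h2, h3]
    set R := E.radical v ⊓ E.fixSub b with hRdef
    have hnormR : ∀ g ∈ E.fixSub b, act (ψ g) v = v → g ∈ Subgroup.normalizer (R : Set B) := by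
      intro g hgb hgv
      rw [Subgroup.mem_normalizer_iff]
      intro r
      have h1 := Subgroup.mem_normalizer_iff.1 (E.radical_conj hv hgv) r
      simp only [hRdef, Subgroup.mem_inf]
      refine ⟨fun h => ⟨h1.1 h.1, mul_mem (mul_mem hgb h.2) (inv_mem hgb)⟩, fun h => ⟨h1.2 h.1, ?_⟩⟩
      have h3 := mul_mem (mul_mem (inv_mem hgb) h.2) hgb
      rwa [show g⁻¹ * (g * r * g⁻¹) * g = r by group] at h3
    have hRP : IsPGroup 2 (R ⊔ P : Subgroup B) :=
      IsPGroup.to_sup_of_normal_left' ((isPGroup_radical E hv).to_le inf_le_left) hP fun p hp =>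
        hnormR p (hPb hp) (hPv p hp)
    set P2 := (R ⊔ P) ⊓ E.fixSub b' with hP2
    obtain ⟨U2, hU2b, hU2N, hP2U⟩ :=
      ih (k + 2) (by omega) b' hb' P2 (hRP.to_le inf_le_left) inf_le_right
    have hU2 : U2 ≤ Subgroup.normalizer (R : Set B) := fun g hg' => by
      obtain ⟨h1, h2, -⟩ := hfix' g (hU2b hg')
      exact hnormR g h1 h2
    refine ⟨U2 ⊔ R, sup_le (fun g hg' => (hfix' g (hU2b hg')).1) inf_le_right, ?_, fun p hp => ?_⟩
    · rintro x ⟨hx, hxN⟩
      have hx' : x ∈ ((U2 ⊔ R : Subgroup B) : Set B) := hx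
      rw [Subgroup.coe_mul_of_left_le_normalizer_right _ _ hU2] at hx'
      obtain ⟨u, hu, r, hr, rfl⟩ := hx'
      obtain ⟨-, -, huz⟩ := hfix' u (hU2b hu)
      have hrz : act (ψ r) z = z := by
        have h1 : ψ u * ψ r = 1 := by rw [← map_mul]; exact hxN
        have h2 : ψ r = (ψ u)⁻¹ := eq_inv_of_mul_eq_one_right h1
        rw [h2]
        conv_lhs => rw [← huz, act_inv_act]
      have hrk : r ∈ ψ.ker := mem_ker_of_fix E hv hz hr.1 hrz
      have huk : u ∈ ψ.ker := by simpa using ψ.ker.mul_mem hxN (ψ.ker.inv_mem hrk)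
      exact mul_mem (hU2N ⟨hu, huk⟩) (kPart_le E hv hv₀ ⟨hr.1, hrk⟩)
    · have hzp : Partner v (act (ψ p) z) := by
        refine ⟨by rw [act_hf]; exact hz.1, ?_⟩
        have h1 := act_hf (ψ p) v z
        rw [hPv p hp] at h1
        rw [h1]; exact hz.2
      obtain ⟨r, hr, hrz⟩ := E.radical_transitive (m := 4) rfl hv hz hzp
      have hrb : r ∈ E.fixSub b := by
        intro i
        obtain ⟨c, hc⟩ := (E.radical_spec hv hr).2 (b i) ((hf_eq_zero_symm hF).1 (hvb i))
        have h1 := act_hf (ψ r) (b i) z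
        rw [hc, hrz, hf_add_left hF, hf_smul_left hF, hzp.2, mul_one] at h1
        have h2 := act_hf (ψ p) (b i) z
        rw [hPb hp i] at h2
        rw [h2, add_eq_left] at h1
        rw [hc, h1, zero_smul, add_zero]
      have hrR : r ∈ R := ⟨hr, hrb⟩
      have hx : r⁻¹ * p ∈ P2 := by
        refine Subgroup.mem_inf.2 ⟨mul_mem (inv_mem (Subgroup.mem_sup_left (T := P) hrR))
          (Subgroup.mem_sup_right (S := R) hp), hfix'' _ ?_ ?_ ?_⟩
        · exact mul_mem (inv_mem hrb) (hPb hp)
        · rw [map_mul, act_mul, hPv p hp, map_inv]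
          conv_lhs => rw [← (E.radical_spec hv hr).1, act_inv_act]
        · rw [map_mul, act_mul, map_inv, ← hrz, act_inv_act]
      have hle : U2 ≤ U2 ⊔ R := le_sup_left
      rw [show p = r * (r⁻¹ * p) by group]
      exact mul_mem (Subgroup.mem_sup_right (Subgroup.mem_sup_right hrR))
        ((sup_le_sup_left hle ψ.ker) (hP2U hx))

/-- Transfer: if a Sylow subgroup lies in `N U`, the central subgroup `N` of the derived group lies in `U`. -/
theorem le_of_sylow_le {B : Type*} [Group B] [Finite B] {p : ℕ} [Fact p.Prime] {N U : Subgroup B}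
    (hc : N ≤ Subgroup.center B) (hd : N ≤ commutator B) (P : Sylow p B) (hN : N ≤ (P : Subgroup B))
    (hP : (P : Subgroup B) ≤ N ⊔ U) : N ≤ U := by
  intro x hx
  have : N.Normal := ⟨fun n hn g => by rwa [Subgroup.mem_center_iff.1 (hc hn) g, mul_inv_cancel_right]⟩
  have hmem := mem_commutator_sylow P (hN hx) (hc hx) (hd hx)
  have hsub : (commutator (P : Subgroup B)).map (P : Subgroup B).subtype ≤ U := by
    rw [commutator_def, Subgroup.map_commutator, ← MonoidHom.range_eq_map, Subgroup.range_subtype,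
      Subgroup.commutator_le]
    intro a ha b hb
    obtain ⟨a1, ha1, a2, ha2, rfl⟩ := Subgroup.mem_sup_of_normal_left.1 (hP ha)
    obtain ⟨b1, hb1, b2, hb2, rfl⟩ := Subgroup.mem_sup_of_normal_left.1 (hP hb)
    have drop : ∀ {k a b : B}, k ∈ N → ⁅k * a, b⁆ = ⁅a, b⁆ := by
      intro k a b hk
      rw [commutatorElement_def, commutatorElement_def, mul_inv_rev,
        show k * a * b * (a⁻¹ * k⁻¹) * b⁻¹ = k * (a * b * a⁻¹ * k⁻¹) * b⁻¹ by group,
        Subgroup.mem_center_iff.1 (inv_mem (hc hk)) (a * b * a⁻¹)]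
      group
    have e : ⁅a1 * a2, b1 * b2⁆ = ⁅a2, b2⁆ := by
      rw [drop ha1, ← commutatorElement_inv (b1 * b2) a2, drop hb1, commutatorElement_inv]
    rw [e, commutatorElement_def]
    exact mul_mem (mul_mem (mul_mem ha2 hb2) (inv_mem ha2)) (inv_mem hb2)
  exact hsub ⟨_, hmem, rfl⟩

/-- The kernel of a perfect central extension of SU(6,2) with 2-group kernel is small. -/
theorem ker_bound [Finite B] (hF : Fintype.card F = 4) (hs : Function.Surjective ψ)
    (hc : ψ.ker ≤ Subgroup.center B) (hk : IsPGroup 2 ψ.ker) (hperf : commutator B = ⊤) :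
    Nat.card ψ.ker ≤ 4 ∧ ∀ k ∈ ψ.ker, k * k = 1 := by
  have : Fact (Nat.Prime 2) := ⟨Nat.prime_two⟩
  obtain ⟨s, E⟩ := exists_ext hF hs hc hk hperf
  have hv := (orthPair_std (F := F) hF).1
  obtain ⟨P⟩ := (inferInstance : Nonempty (Sylow 2 B))
  obtain ⟨U, -, hUN, hPU⟩ := split E hv 3 0 rfl Fin.elim0
    ⟨fun i => i.elim0, fun i => i.elim0⟩ (P : Subgroup B) P.isPGroup' (fun g _ i => i.elim0)
  have hker : ψ.ker ≤ (P : Subgroup B) := by
    rw [← P.3 (IsPGroup.to_sup_of_normal_right P.isPGroup' hk) le_sup_left]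
    exact le_sup_right
  have hle := le_of_sylow_le hc (hperf ▸ le_top) P hker hPU
  have hK : ψ.ker ≤ kPart E p1 := fun x hx => hUN ⟨hle hx, hx⟩
  exact ⟨(Nat.card_le_card_of_injective _ (Subgroup.inclusion_injective hK)).trans (card_kPart E hv),
    fun k hk' => kPart_sq E hv (hK hk')⟩

end Cfsg.Agent.U62Mult
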