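import Cfsg.Agent.Lib.Fi22U62.Cover
import Cfsg.Agent.Lib.U62Mult.CoverData

/-!
Certified facts about the twisted double cover of PSU(6,2).

* `dperm`, `phi_twist`, `hel_sq`, `dhel_sq`, `wit_one`, `wit_ne_one`
-/

set_option autoImplicit false
set_option maxRecDepth 10000

namespace Cfsg.Agent.U62Mult

open Cfsg.Agent.CosetEnum Cfsg.Agent.CosetEnum.Data
open Cfsg.Agent.Fi22U62

/-- the diagonal element on the points -/
noncomputable def dp (j : ℕ) : ℕ := lane 12 dTab j

/-- its inverse -/
noncomputable def dq (j : ℕ) : ℕ := lane 12 dInvTab j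

theorem dp_spec : ∀ j : Fin 693, dp j < 693 ∧ dq j < 693 ∧ dq (dp j) = j ∧ dp (dq j) = j := by
  decide +kernel

/-- the diagonal element as a permutation -/
noncomputable def dperm : Equiv.Perm (Fin 693) where
  toFun j := ⟨dp j, (dp_spec j).1⟩
  invFun j := ⟨dq j, (dp_spec j).2.1⟩
  left_inv j := Fin.ext (dp_spec j).2.2.1
  right_inv j := Fin.ext (dp_spec j).2.2.2

/-- a word acting on the points -/
noncomputable def pw (w : List ℕ) : ℕ → ℕ :=
  List.rec (motive := fun _ => ℕ → ℕ) (fun j => j) (fun a _ ih j => force (gfun a j) fun i => ih i) w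

/-- the image of a generator -/
def dw (k : ℕ) : List ℕ := dWords.getD k []

/-- the image of the witness word -/
def witW' : List ℕ := witW.flatMap dw

theorem dw_lt : ((List.range 9).all fun k => (dw k).all fun a => Nat.blt a 9) = true := by decide +kernel

theorem twist_check : ((List.range 8).all fun k => (List.range 693).all fun j =>
    Nat.beq (pw (dw (k + 1)) (dp j)) (dp (gfun (k + 1) j))) = true := by
  decide +kernel

theorem sq_check : ((List.range 9).all fun k =>
    (((gword [k, k]).all fun a => Nat.blt a fi22h.k) && ((gword (dw k ++ dw k)).all fun a => Nat.blt a fi22h.k)) &&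
      (Nat.beq (fi22h.trace (gword [k, k])) (fi22h.trace []) &&
        Nat.beq (fi22h.trace (gword (dw k ++ dw k))) (fi22h.trace []))) = true := by
  decide +kernel

theorem wit_check : (((witW.all fun k => Nat.blt k 9) && (witW'.all fun k => Nat.blt k 9)) &&
    (((gword witW).all fun a => Nat.blt a fi22h.k) && ((gword witW').all fun a => Nat.blt a fi22h.k))) = true := by
  decide +kernel

theorem wit_parity : ((List.range 9).all fun k => Nat.beq (witW.count k % 2) 0) = true := by decide +kernel

theorem wit_pos : (witW.all fun k => Nat.blt 0 k) = true := by decide +kernel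

theorem wit_trace : Nat.beq (fi22h.trace (gword witW)) (fi22h.trace []) = true := by decide +kernel

/-- a segment of the witness word -/
def seg (a b : ℕ) : List ℕ := ((witW.take b).drop a).flatMap dw

/-- the action of a segment -/
noncomputable def segOK (a b p q : ℕ) : Bool :=
  ((gword (seg a b)).all fun x => Nat.blt x fi22h.k) && Nat.beq (lane 13 (fi22h.trace (gword (seg a b))) p) q

theorem seg_check0 : segOK 0 12 1 1118 = true := by decide +kernel

theorem seg_check1 : segOK 12 20 1118 1 = true := by decide +kernel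

theorem seg_check2 : segOK 20 30 1 1345 = true := by decide +kernel

theorem seg_check3 : segOK 30 39 1345 1731 = true := by decide +kernel

theorem seg_check4 : segOK 39 46 1731 170 = true := by decide +kernel

theorem seg_check5 : segOK 46 55 170 1861 = true := by decide +kernel

theorem seg_check6 : segOK 55 63 1861 1650 = true := by decide +kernel

theorem seg_check7 : segOK 63 70 1650 1735 = true := by decide +kernel

theorem seg_check8 : segOK 70 79 1735 2133 = true := by decide +kernel

theorem seg_check9 : segOK 79 86 2133 2 = true := by decide +kernel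

theorem seg_concat : witW' = seg 0 12 ++ seg 12 20 ++ seg 20 30 ++ seg 30 39 ++ seg 39 46 ++ seg 46 55 ++ seg 55 63 ++ seg 63 70 ++ seg 70 79 ++ seg 79 86 := by decide +kernel

/-- words act in sequence -/
theorem tw_append : ∀ (u v : List ℕ) (i : ℕ), fi22h.tw (u ++ v) i = fi22h.tw v (fi22h.tw u i)
  | [], v, i => rfl
  | a :: u, v, i => tw_append u v (fi22h.act a i)

theorem seg_spec {a b p q : ℕ} (hp : p < fi22h.n) (h : segOK a b p q = true) :
    fi22h.tw (gword (seg a b)) p = q := by
  simp only [segOK, Bool.and_eq_true, List.all_eq_true, Nat.blt_eq, beq_iff] at h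
  rw [← lane_trace h.1 ⟨p, hp⟩]
  exact h.2

theorem wit_moves : fi22h.tw (gword witW') 1 = 2 := by
  have hn : ∀ {p : ℕ}, p < 3510 → p < fi22h.n := fun h => h
  rw [seg_concat]
  simp only [gword, List.flatMap_append]
  simp only [tw_append]
  rw [show List.flatMap gw (seg 0 12) = gword (seg 0 12) from rfl, seg_spec (hn (by norm_num)) seg_check0]
  rw [show List.flatMap gw (seg 12 20) = gword (seg 12 20) from rfl, seg_spec (hn (by norm_num)) seg_check1]
  rw [show List.flatMap gw (seg 20 30) = gword (seg 20 30) from rfl, seg_spec (hn (by norm_num)) seg_check2]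
  rw [show List.flatMap gw (seg 30 39) = gword (seg 30 39) from rfl, seg_spec (hn (by norm_num)) seg_check3]
  rw [show List.flatMap gw (seg 39 46) = gword (seg 39 46) from rfl, seg_spec (hn (by norm_num)) seg_check4]
  rw [show List.flatMap gw (seg 46 55) = gword (seg 46 55) from rfl, seg_spec (hn (by norm_num)) seg_check5]
  rw [show List.flatMap gw (seg 55 63) = gword (seg 55 63) from rfl, seg_spec (hn (by norm_num)) seg_check6]
  rw [show List.flatMap gw (seg 63 70) = gword (seg 63 70) from rfl, seg_spec (hn (by norm_num)) seg_check7]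
  rw [show List.flatMap gw (seg 70 79) = gword (seg 70 79) from rfl, seg_spec (hn (by norm_num)) seg_check8]
  rw [show List.flatMap gw (seg 79 86) = gword (seg 79 86) from rfl, seg_spec (hn (by norm_num)) seg_check9]

theorem dw_lt' (k : ℕ) : ∀ a ∈ dw k, a < 9 := by
  intro a ha
  by_cases hk : k < 9
  · have h := List.all_eq_true.mp dw_lt k (List.mem_range.mpr hk)
    simp only [List.all_eq_true, Nat.blt_eq] at h
    exact h a ha
  · rw [dw, List.getD_eq_default _ _ (by simp [dWords]; omega)] at ha
    simp at ha

theorem phi_ev : ∀ (w : List ℕ), (∀ a ∈ w, a < 9) → ∀ j : Fin 693, (phi (ev hel w) j : ℕ) = pw w j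
  | [], _, j => by simp [ev, pw]
  | a :: v, h, j => by
    have ha := h a List.mem_cons_self
    show (phi (ev hel v * hel a) j : ℕ) = _
    rw [map_mul, Equiv.Perm.mul_apply, phi_ev v (fun b hb => h b (List.mem_cons_of_mem a hb))]
    rw [show hel a = ⟨_, hgen_mem ha⟩ by rw [hel, dif_pos ha], phi_gen ha, gperm_apply ha]
    simp [pw, force_eq]

theorem phi_hel {k : ℕ} (hk : k < 9) : phi (hel k) = gperm k := by
  rw [hel, dif_pos hk, phi_gen hk]

/-- the words give the conjugate generators -/
theorem phi_twist {k : ℕ} (hk : k < 8) : phi (ev hel (dw (k + 1))) = dperm * gperm (k + 1) * dperm⁻¹ := by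
  refine Equiv.ext fun j => Fin.ext ?_
  obtain ⟨i, rfl⟩ := dperm.surjective j
  rw [Equiv.Perm.mul_apply, Equiv.Perm.mul_apply, Equiv.Perm.inv_def, Equiv.symm_apply_apply,
    phi_ev _ (dw_lt' _)]
  have h := List.all_eq_true.mp twist_check k (List.mem_range.mpr hk)
  simp only [List.all_eq_true, beq_iff] at h
  have h1 := h i (List.mem_range.mpr i.2)
  show pw (dw (k + 1)) (dp i) = dp (gperm (k + 1) i : ℕ)
  rw [h1, gperm_apply (by omega)]

/-- a traced word representing one -/
theorem ev_eq_one {w : List ℕ} (hw : ∀ k ∈ w, k < 9) (hl : ∀ a ∈ gword w, a < fi22h.k)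
    (h : fi22h.trace (gword w) = fi22h.trace []) : ev hel w = 1 := by
  apply Subtype.ext
  rw [val_ev_hel _ hw]
  apply rho_injective
  rw [← rho_gword _ hw, eq_of_trace hl (by simp) h]
  simp [ev]

theorem hel_sq {k : ℕ} (hk : k < 9) : hel k * hel k = 1 ∧ ev hel (dw k) * ev hel (dw k) = 1 := by
  have h := List.all_eq_true.mp sq_check k (List.mem_range.mpr hk)
  simp only [Bool.and_eq_true, List.all_eq_true, Nat.blt_eq, beq_iff] at h
  obtain ⟨⟨h1, h2⟩, h3, h4⟩ := h
  constructor
  · have := ev_eq_one (w := [k, k]) (by simp [hk]) h1 h3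
    simpa [ev] using this
  · rw [← ev_append]
    exact ev_eq_one (fun a ha => (List.mem_append.mp ha).elim (dw_lt' k a) (dw_lt' k a)) h2 h4

theorem wit_one : ev hel witW = 1 := by
  have h := wit_check
  simp only [Bool.and_eq_true, List.all_eq_true, Nat.blt_eq] at h
  exact ev_eq_one h.1.1 h.2.1 (beq_iff.mp wit_trace)

theorem wit_ne_one : ev hel witW' ≠ 1 := by
  have h := wit_check
  simp only [Bool.and_eq_true, List.all_eq_true, Nat.blt_eq] at h
  intro he
  have e := rho_gword witW' h.1.2
  rw [← val_ev_hel _ h.1.2, he, OneMemClass.coe_one, map_one] at e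
  let i : Fin fi22h.n := ⟨1, by show 1 < 3510; norm_num⟩
  have e1 := congrArg (fun π : Equiv.Perm (Fin fi22h.n) => ((π i : Fin fi22h.n) : ℕ)) e
  simp only [Equiv.Perm.one_apply] at e1
  rw [Setup.ev_perm _ _ h.2.2, wit_moves] at e1
  exact absurd e1 (by decide)

end Cfsg.Agent.U62Mult
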