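/-
The Sylow 3-subgroups of a central extension of SU(6,2) with 3-group kernel split.

Main results (namespace `Cfsg.Agent.U62Mult`): `card_SU6`, `ker_eq_bot_three`: a perfect central
extension of SU(6,2) with 3-group kernel is an isomorphism.

The monomial group 3⁵:S₆ contains a Sylow 3-subgroup. It is generated by the transvections centred at
`e_i + c e_j`, whose lifts to involutions are unique, so symmetry forces all its relations.
-/
import Cfsg.Agent.Lib.U62Mult.TwoBound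
import Cfsg.Agent.Lib.Unitary.Center

set_option autoImplicit false

namespace Cfsg.Agent.U62Mult

open Cfsg.Agent.Unitary Cfsg.Agent.U62Cover Cfsg.Agent.ThreeTransSU
open scoped commutatorElement Matrix

variable {F : Type*} [Field F] [Fintype F]

theorem card_SU6 (hF : Fintype.card F = 4) : Nat.card (Cfsg.SU 6 F 2) = 27590492160 := by
  have h := card_SU (card_sq hF) 6 (by norm_num)
  simp [Finset.prod_range_succ, Nat.even_add_one] at h
  omega

/-- The centre `e_i + c e_j`. -/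
def pv (i j : Fin 6) (c : F) : Fin 6 → F := Pi.single i 1 + Pi.single j c

theorem hf_single (hF : Fintype.card F = 4) (i : Fin 6) (a : F) (y : Fin 6 → F) :
    hf (Pi.single i a) y = a * y i ^ 2 := by
  simp [Cfsg.hermForm, Pi.single_apply]

theorem hf_pv_left (hF : Fintype.card F = 4) (i j : Fin 6) (c : F) (y : Fin 6 → F) :
    hf (pv i j c) y = y i ^ 2 + c * y j ^ 2 := by
  rw [pv, hf_add_left hF, hf_single hF, hf_single hF, one_mul]

theorem pv_apply (i j k : Fin 6) (c : F) :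
    pv i j c k = (if k = i then 1 else 0) + (if k = j then c else 0) := by
  simp [pv, Pi.single_apply]

theorem pv_iso (hF : Fintype.card F = 4) {i j : Fin 6} (hij : i ≠ j) {c : F} (hc : c ≠ 0) : Iso (pv i j c) := by
  refine ⟨fun h => ?_, ?_⟩
  · have := congrFun h i
    simp [pv_apply, hij] at this
  · rw [hf_pv_left hF]
    simp [pv_apply, hij, hij.symm]
    linear_combination mul_sq_self hF hc + two_eq_zero hF

theorem pv_orth (hF : Fintype.card F = 4) {i j k l : Fin 6} (hik : i ≠ k) (hil : i ≠ l) (hjk : j ≠ k)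
    (hjl : j ≠ l) (a b : F) : hf (pv i j a) (pv k l b) = 0 := by
  rw [hf_pv_left hF]
  simp [pv_apply, hik, hil, hjk, hjl]

theorem act_swap_single (hF : Fintype.card F = 4) {a b : Fin 6} (hab : a ≠ b) (k : Fin 6) (x : F) :
    act (tv hF (pv a b (1 : F))) (Pi.single k x) = Pi.single (Equiv.swap a b k) x := by
  have h2 := two_eq_zero hF
  rw [act_tv hF (pv_iso hF hab one_ne_zero).2, hf_single hF]
  funext m
  simp only [Pi.add_apply, Pi.smul_apply, smul_eq_mul, pv_apply, Pi.single_apply, Equiv.swap_apply_def]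
  split_ifs <;> subst_vars <;> simp_all <;> grind

theorem act_swap_pv (hF : Fintype.card F = 4) {a b : Fin 6} (hab : a ≠ b) (i j : Fin 6) (c : F) :
    act (tv hF (pv a b (1 : F))) (pv i j c) = pv (Equiv.swap a b i) (Equiv.swap a b j) c := by
  rw [show pv i j c = Pi.single i 1 + Pi.single j c from rfl, act_add, act_swap_single hF hab,
    act_swap_single hF hab]; rfl

theorem act_one_omega (hF : Fintype.card F = 4) {ω : F} (hω : ω ^ 2 = ω + 1) {i j : Fin 6} (hij : i ≠ j) :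
    act (tv hF (pv i j ω)) (pv i j (1 : F)) = ω • pv j i ω := by
  have h2 := two_eq_zero hF
  have hω0 : ω ≠ 0 := fun h => by rw [h] at hω; simp at hω
  rw [act_tv hF (pv_iso hF hij hω0).2, hf_pv_left hF]
  funext m
  simp only [Pi.add_apply, Pi.smul_apply, smul_eq_mul, pv_apply]
  split_ifs <;> subst_vars <;> simp_all <;> grind

/-- The diagonal of the torus element of `i`, `j`. -/
def diagC (ω : F) (i j k : Fin 6) : F := if k = i then ω else if k = j then ω ^ 2 else 1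

theorem act_torus (hF : Fintype.card F = 4) {ω : F} (hω : ω ^ 2 = ω + 1) {i j : Fin 6} (hij : i ≠ j)
    (k : Fin 6) (x : F) :
    act (tv hF (pv i j (1 : F)) * tv hF (pv i j ω)) (Pi.single k x) = Pi.single k (diagC ω i j k * x) := by
  have h2 := two_eq_zero hF
  have hω0 : ω ≠ 0 := fun h => by rw [h] at hω; simp at hω
  rw [act_mul, act_tv hF (pv_iso hF hij hω0).2, act_tv hF (pv_iso hF hij one_ne_zero).2, hf_single hF,
    hf_add_left hF, hf_single hF, hf_smul_left hF, hf_pv_left hF]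
  funext m
  simp only [Pi.add_apply, Pi.smul_apply, smul_eq_mul, pv_apply, Pi.single_apply, diagC]
  split_ifs <;> subst_vars <;> simp_all <;> grind

theorem ext_single {g h : Cfsg.SU 6 F 2}
    (H : ∀ k : Fin 6, ∀ x : F, act g (Pi.single k x) = act h (Pi.single k x)) : g = h := by
  classical
  refine act_ext fun x => ?_
  rw [← Finset.univ_sum_single x]
  show U62Cover.mt g *ᵥ _ = U62Cover.mt h *ᵥ _
  rw [Matrix.mulVec_sum, Matrix.mulVec_sum]
  exact Finset.sum_congr rfl fun k _ => H k _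

/-- Conjugation-equivariant involution lifts. -/
structure OddLifts {B : Type*} [Group B] (ψ : B →* Cfsg.SU 6 F 2) (s : (Fin 6 → F) → B) : Prop where
  card : Fintype.card F = 4
  map_s : ∀ v, Iso v → ψ (s v) = tv card v
  sq : ∀ v, Iso v → s v * s v = 1
  smul : ∀ v, ∀ c : F, Iso v → c ≠ 0 → s (c • v) = s v
  equiv : ∀ b v, Iso v → b * s v * b⁻¹ = s (act (ψ b) v)
  central : ψ.ker ≤ Subgroup.center B
  pgroup : IsPGroup 3 ψ.ker

variable {B : Type*} [Group B] {ψ : B →* Cfsg.SU 6 F 2}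

theorem eq_one_of_sq (hp : IsPGroup 3 ψ.ker) {k : B} (hk : ψ k = 1) (h2 : k ^ 2 = 1) : k = 1 := by
  obtain ⟨e, he⟩ := hp ⟨k, hk⟩
  exact eq_one_of_coprime_pow (Nat.Coprime.pow_right e (by norm_num)) h2 (congrArg Subtype.val he)

theorem exists_oddLifts (hF : Fintype.card F = 4) (hs : Function.Surjective ψ)
    (hc : ψ.ker ≤ Subgroup.center B) (hp : IsPGroup 3 ψ.ker) :
    ∃ s : (Fin 6 → F) → B, OddLifts ψ s := by
  classical
  have huniq : ∀ {x y : B}, ψ x = ψ y → x * x = 1 → y * y = 1 → x = y := by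
    intro x y h hx hy
    have hk : ψ (y⁻¹ * x) = 1 := by rw [map_mul, map_inv, h, inv_mul_cancel]
    have hcm := Subgroup.mem_center_iff.1 (hc (MonoidHom.mem_ker.2 hk))
    have h2 : (y⁻¹ * x) ^ 2 = 1 := by
      calc (y⁻¹ * x) ^ 2 = (y⁻¹ * x) * y⁻¹ * x := by rw [pow_two]; group
        _ = y⁻¹ * (y⁻¹ * x) * x := by rw [hcm y⁻¹]
        _ = (y * y)⁻¹ * (x * x) := by group
        _ = 1 := by rw [hx, hy, inv_one, one_mul]
    exact (inv_mul_eq_one.1 (eq_one_of_sq hp hk h2)).symm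
  have hex : ∀ v : Fin 6 → F, ∃ y : B, Iso v → ψ y = tv hF v ∧ y * y = 1 := by
    intro v
    by_cases hv : Iso v
    · obtain ⟨a, ha⟩ := hs (tv hF v)
      have haa : ψ (a * a) = 1 := by rw [map_mul, ha, tv_sq hF hv.2]
      obtain ⟨e, he⟩ := hp ⟨a * a, haa⟩
      refine ⟨a ^ 3 ^ e, fun _ => ⟨?_, ?_⟩⟩
      · obtain ⟨d, hd⟩ : ∃ d, 3 ^ e = 2 * d + 1 := (Odd.pow (by decide : Odd 3))
        rw [map_pow, ha, hd, pow_succ, pow_mul, pow_two, tv_sq hF hv.2, one_pow, one_mul]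
      · rw [← (Commute.refl a).mul_pow]
        exact congrArg Subtype.val he
    · exact ⟨1, fun h => absurd h hv⟩
  choose s hs' using hex
  refine ⟨s, hF, fun v hv => (hs' v hv).1, fun v hv => (hs' v hv).2, fun v c hv hc0 => ?_, fun b v hv => ?_,
    hc, hp⟩
  · exact huniq (by rw [(hs' _ (hv.smul hF hc0)).1, (hs' v hv).1, tv_smul hF hv hc0])
      (hs' _ (hv.smul hF hc0)).2 (hs' v hv).2
  · refine huniq ?_ ?_ (hs' _ (hv.act _)).2
    · rw [map_mul, map_mul, map_inv, (hs' v hv).1, (hs' _ (hv.act _)).1, tv_conj_inv hF _ hv.2]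
    · rw [show b * s v * b⁻¹ * (b * s v * b⁻¹) = b * (s v * s v) * b⁻¹ by group, (hs' v hv).2]; group

namespace OddLifts

variable {s : (Fin 6 → F) → B}

theorem s_inv (O : OddLifts ψ s) {v : Fin 6 → F} (hv : Iso v) : (s v)⁻¹ = s v :=
  inv_eq_of_mul_eq_one_left (O.sq v hv)

theorem commute_s (O : OddLifts ψ s) {u v : Fin 6 → F} (hu : Iso u) (hv : Iso v) (h : hf v u = 0) :
    Commute (s u) (s v) := by
  have h1 := O.equiv (s u) v hv
  rw [O.map_s u hu, act_tv_of_orth O.card hu.2 h] at h1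
  exact mul_inv_eq_iff_eq_mul.1 h1

/-- The torus element of `i`, `j`. -/
def tau (_O : OddLifts ψ s) (ω : F) (i j : Fin 6) : B := s (pv i j 1) * s (pv i j ω)

variable {ω : F}

theorem conj_tau (O : OddLifts ψ s) (hω : ω ^ 2 = ω + 1) {a b i j : Fin 6} (hab : a ≠ b) (hij : i ≠ j) :
    s (pv a b 1) * O.tau ω i j * (s (pv a b 1))⁻¹ = O.tau ω (Equiv.swap a b i) (Equiv.swap a b j) := by
  have hω0 : ω ≠ 0 := fun h => by rw [h] at hω; simp at hω
  rw [tau, tau, show ∀ x y z : B, x * (y * z) * x⁻¹ = x * y * x⁻¹ * (x * z * x⁻¹) by intros; group,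
    O.equiv _ _ (pv_iso O.card hij one_ne_zero), O.equiv _ _ (pv_iso O.card hij hω0),
    O.map_s _ (pv_iso O.card hab one_ne_zero), act_swap_pv O.card hab, act_swap_pv O.card hab]

theorem tau_swap (O : OddLifts ψ s) (hω : ω ^ 2 = ω + 1) {i j : Fin 6} (hij : i ≠ j) :
    O.tau ω j i = (O.tau ω i j)⁻¹ := by
  have hω0 : ω ≠ 0 := fun h => by rw [h] at hω; simp at hω
  have i1 := pv_iso O.card hij (one_ne_zero (α := F))
  have i2 := pv_iso O.card hij hω0
  have e1 : pv j i (1 : F) = pv i j 1 := add_comm _ _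
  have h := O.equiv (s (pv i j 1)) _ i2
  rw [O.map_s _ i1, act_swap_pv O.card hij, Equiv.swap_apply_left, Equiv.swap_apply_right] at h
  rw [tau, tau, e1, ← h, mul_inv_rev, O.s_inv i2, O.s_inv i1,
    show s (pv i j 1) * (s (pv i j 1) * s (pv i j ω) * s (pv i j 1))
      = s (pv i j 1) * s (pv i j 1) * (s (pv i j ω) * s (pv i j 1)) by group, O.sq _ i1, one_mul]

theorem braid_cube {G : Type*} [Group G] {a b : G} (ha : a * a = 1) (hb : b * b = 1)
    (h : b * a * b = a * b * a) : (a * b) ^ 3 = 1 := by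
  calc (a * b) ^ 3 = a * (b * a * b) * a * b := by
        simp only [pow_succ, pow_zero, one_mul, mul_assoc]
    _ = a * a * b * (a * a) * b := by rw [h]; simp only [mul_assoc]
    _ = 1 := by rw [ha, one_mul, mul_one, hb]

theorem tau_cube (O : OddLifts ψ s) (hω : ω ^ 2 = ω + 1) {i j : Fin 6} (hij : i ≠ j) :
    O.tau ω i j ^ 3 = 1 := by
  have hω0 : ω ≠ 0 := fun h => by rw [h] at hω; simp at hω
  have i1 := pv_iso O.card hij (one_ne_zero (α := F))
  have i2 := pv_iso O.card hij hω0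
  refine braid_cube (O.sq _ i1) (O.sq _ i2) ?_
  have h := O.equiv (s (pv i j 1)) _ i2
  have h' := O.equiv (s (pv i j ω)) _ i1
  rw [O.map_s _ i1, act_swap_pv O.card hij, Equiv.swap_apply_left, Equiv.swap_apply_right, O.s_inv i1] at h
  rw [O.map_s _ i2, act_one_omega O.card hω hij, O.smul _ _ (pv_iso O.card hij.symm hω0) hω0, O.s_inv i2] at h'
  rw [h', ← h]

theorem act_tau (O : OddLifts ψ s) (hω : ω ^ 2 = ω + 1) {i j : Fin 6} (hij : i ≠ j) (k : Fin 6) (x : F) :
    act (ψ (O.tau ω i j)) (Pi.single k x) = Pi.single k (diagC ω i j k * x) := by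
  have hω0 : ω ≠ 0 := fun h => by rw [h] at hω; simp at hω
  rw [tau, map_mul, O.map_s _ (pv_iso O.card hij one_ne_zero), O.map_s _ (pv_iso O.card hij hω0),
    act_torus O.card hω hij]

theorem tau_commute_share (O : OddLifts ψ s) (hω : ω ^ 2 = ω + 1) {i j k : Fin 6} (hij : i ≠ j)
    (hjk : j ≠ k) (hik : i ≠ k) : Commute (O.tau ω i j) (O.tau ω j k) := by
  rw [← commutatorElement_eq_one_iff_commute]
  have hg : ψ ⁅O.tau ω i j, O.tau ω j k⁆ = 1 := by
    rw [map_commutatorElement, commutatorElement_eq_one_iff_commute]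
    refine ext_single fun m x => ?_
    rw [act_mul, act_mul, O.act_tau hω hij, O.act_tau hω hjk, O.act_tau hω hjk, O.act_tau hω hij,
      mul_left_comm]
  refine eq_one_of_sq O.pgroup hg ?_
  set g := ⁅O.tau ω i j, O.tau ω j k⁆ with hgdef
  have hcm := Subgroup.mem_center_iff.1 (O.central (MonoidHom.mem_ker.2 hg))
  set x := s (pv i k 1) with hx
  have e1 : x * O.tau ω i j * x⁻¹ = (O.tau ω j k)⁻¹ := by
    rw [hx, O.conj_tau hω hik hij, Equiv.swap_apply_left, Equiv.swap_apply_of_ne_of_ne hij.symm hjk,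
      O.tau_swap hω hjk]
  have e2 : x * O.tau ω j k * x⁻¹ = (O.tau ω i j)⁻¹ := by
    rw [hx, O.conj_tau hω hik hjk, Equiv.swap_apply_right, Equiv.swap_apply_of_ne_of_ne hij.symm hjk,
      O.tau_swap hω hij]
  generalize O.tau ω i j = a at *
  generalize O.tau ω j k = b at *
  have e3 : g = ⁅b⁻¹, a⁻¹⁆ := by
    rw [← e1, ← e2]
    calc g = x * g * x⁻¹ := by rw [hcm x, mul_inv_cancel_right]
      _ = _ := by rw [hgdef]; simp only [commutatorElement_def]; group
  have e4 : (a * b) * g⁻¹ = g⁻¹ * (a * b) := by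
    apply mul_left_cancel (a := g)
    rw [← mul_assoc, ← hcm (a * b)]
    group
  have e5 : ⁅b⁻¹, a⁻¹⁆ = g⁻¹ := by
    calc ⁅b⁻¹, a⁻¹⁆ = (a * b)⁻¹ * (g⁻¹ * (a * b)) := by
          rw [hgdef]; simp only [commutatorElement_def]; group
      _ = g⁻¹ := by rw [← e4, inv_mul_cancel_left]
  rw [pow_two]
  nth_rewrite 1 [e3]
  rw [e5, inv_mul_cancel]

theorem tau_commute (O : OddLifts ψ s) (hω : ω ^ 2 = ω + 1) {i j k l : Fin 6} (hij : i ≠ j) (hkl : k ≠ l) :
    Commute (O.tau ω i j) (O.tau ω k l) := by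
  have hω0 : ω ≠ 0 := fun h => by rw [h] at hω; simp at hω
  by_cases h1 : j = k
  · subst h1
    by_cases h2 : i = l
    · subst h2; rw [O.tau_swap hω hij]; exact (Commute.refl _).inv_right
    · exact O.tau_commute_share hω hij hkl h2
  by_cases h2 : i = l
  · subst h2
    exact (O.tau_commute_share hω hkl hij (Ne.symm h1)).symm
  by_cases h3 : j = l
  · subst h3
    rw [O.tau_swap hω hkl.symm]
    by_cases h4 : i = k
    · subst h4; rw [O.tau_swap hω hij, inv_inv]
    · exact (O.tau_commute_share hω hij hkl.symm h4).inv_right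
  by_cases h4 : i = k
  · subst h4
    rw [O.tau_swap hω hij.symm]
    exact (O.tau_commute_share hω hij.symm hkl h3).inv_left
  have ht : ∀ a b : F, a ≠ 0 → b ≠ 0 → Commute (s (pv i j a)) (s (pv k l b)) := fun a b ha hb =>
    O.commute_s (pv_iso O.card hij ha) (pv_iso O.card hkl hb)
      (pv_orth O.card (Ne.symm h4) (Ne.symm h1) (Ne.symm h2) (Ne.symm h3) b a)
  exact ((ht _ _ one_ne_zero one_ne_zero).mul_right (ht _ _ one_ne_zero hω0)).mul_left
    ((ht _ _ hω0 one_ne_zero).mul_right (ht _ _ hω0 hω0))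

theorem tau_add (O : OddLifts ψ s) (hω : ω ^ 2 = ω + 1) {i j k : Fin 6} (hij : i ≠ j) (hjk : j ≠ k)
    (hik : i ≠ k) : O.tau ω i j * O.tau ω j k = O.tau ω i k := by
  have h2 := two_eq_zero O.card
  have c1 : Commute (O.tau ω i j) (O.tau ω j k) := O.tau_commute hω hij hjk
  have c2 : Commute (O.tau ω i j) (O.tau ω i k) := O.tau_commute hω hij hik
  have c3 : Commute (O.tau ω j k) (O.tau ω i k) := O.tau_commute hω hjk hik
  rw [← mul_inv_eq_one]
  have hg : ψ (O.tau ω i j * O.tau ω j k * (O.tau ω i k)⁻¹) = 1 := by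
    rw [map_mul, map_inv, mul_inv_eq_one]
    refine ext_single fun m x => ?_
    rw [map_mul, act_mul, O.act_tau hω hjk, O.act_tau hω hij, O.act_tau hω hik, ← mul_assoc]
    congr 1
    unfold diagC
    split_ifs <;> subst_vars <;> simp_all <;> grind
  refine eq_one_of_sq O.pgroup hg ?_
  set x := s (pv i k 1) with hx
  have e1 : x * O.tau ω i j * x⁻¹ = (O.tau ω j k)⁻¹ := by
    rw [hx, O.conj_tau hω hik hij, Equiv.swap_apply_left, Equiv.swap_apply_of_ne_of_ne hij.symm hjk,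
      O.tau_swap hω hjk]
  have e2 : x * O.tau ω j k * x⁻¹ = (O.tau ω i j)⁻¹ := by
    rw [hx, O.conj_tau hω hik hjk, Equiv.swap_apply_right, Equiv.swap_apply_of_ne_of_ne hij.symm hjk,
      O.tau_swap hω hij]
  have e3 : x * O.tau ω i k * x⁻¹ = (O.tau ω i k)⁻¹ := by
    rw [hx, O.conj_tau hω hik hik, Equiv.swap_apply_left, Equiv.swap_apply_right, O.tau_swap hω hik]
  have hcm := Subgroup.mem_center_iff.1 (O.central (MonoidHom.mem_ker.2 hg)) x
  generalize O.tau ω i j = a at *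
  generalize O.tau ω j k = b at *
  generalize O.tau ω i k = c at *
  have e4 : a * b * c⁻¹ = b⁻¹ * a⁻¹ * c := by
    calc a * b * c⁻¹ = x * (a * b * c⁻¹) * x⁻¹ := by rw [hcm, mul_inv_cancel_right]
      _ = x * a * x⁻¹ * (x * b * x⁻¹) * (x * c * x⁻¹)⁻¹ := by group
      _ = _ := by rw [e1, e2, e3, inv_inv]
  have e5 : b⁻¹ * a⁻¹ * c = (a * b * c⁻¹)⁻¹ := by
    rw [← mul_inv_rev, ((c2.mul_left c3).inv_left).eq]
    group
  rw [pow_two]
  nth_rewrite 1 [e4]
  rw [e5, inv_mul_cancel]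

/-- A product of torus elements. -/
def tor (O : OddLifts ψ s) (ω : F) (a : Fin 5 → ℕ) : B :=
  O.tau ω 0 5 ^ a 0 * O.tau ω 1 5 ^ a 1 * O.tau ω 2 5 ^ a 2 * O.tau ω 3 5 ^ a 3 * O.tau ω 4 5 ^ a 4

theorem tor_mul (O : OddLifts ψ s) (hω : ω ^ 2 = ω + 1) (a b : Fin 5 → ℕ) :
    O.tor ω a * O.tor ω b = O.tor ω (a + b) := by
  have hc : ∀ (i j : Fin 6), i ≠ 5 → j ≠ 5 → ∀ m n : ℕ, Commute (O.tau ω i 5 ^ m) (O.tau ω j 5 ^ n) :=
    fun i j hi hj m n => (O.tau_commute hω hi hj).pow_pow m n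
  have d0 : (0 : Fin 6) ≠ 5 := by decide
  have d1 : (1 : Fin 6) ≠ 5 := by decide
  have d2 : (2 : Fin 6) ≠ 5 := by decide
  have d3 : (3 : Fin 6) ≠ 5 := by decide
  have d4 : (4 : Fin 6) ≠ 5 := by decide
  simp only [tor, Pi.add_apply, pow_add]
  rw [(((((hc 0 4 d0 d4 (b 0) (a 4)).mul_left (hc 1 4 d1 d4 (b 1) (a 4))).mul_left
      (hc 2 4 d2 d4 (b 2) (a 4))).mul_left (hc 3 4 d3 d4 (b 3) (a 4)))).symm.mul_mul_mul_comm,
    ((((hc 0 3 d0 d3 (b 0) (a 3)).mul_left (hc 1 3 d1 d3 (b 1) (a 3))).mul_left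
      (hc 2 3 d2 d3 (b 2) (a 3)))).symm.mul_mul_mul_comm,
    (((hc 0 2 d0 d2 (b 0) (a 2)).mul_left (hc 1 2 d1 d2 (b 1) (a 2)))).symm.mul_mul_mul_comm,
    ((hc 0 1 d0 d1 (b 0) (a 1))).symm.mul_mul_mul_comm]

theorem tor_mod (O : OddLifts ψ s) (hω : ω ^ 2 = ω + 1) (a : Fin 5 → ℕ) :
    O.tor ω a = O.tor ω fun i => a i % 3 := by
  have e : ∀ i : Fin 6, i ≠ 5 → ∀ m : ℕ, O.tau ω i 5 ^ m = O.tau ω i 5 ^ (m % 3) := fun i hi m => by
    conv_lhs => rw [← Nat.mod_add_div m 3, pow_add, pow_mul, O.tau_cube hω hi, one_pow, mul_one]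
  rw [tor, tor, e 0 (by decide) (a 0), e 1 (by decide) (a 1), e 2 (by decide) (a 2), e 3 (by decide) (a 3),
    e 4 (by decide) (a 4)]

theorem tor_single (O : OddLifts ψ s) (i : Fin 5) : O.tor ω (Pi.single i 1) = O.tau ω i.castSucc 5 := by
  fin_cases i <;> simp [tor] <;> rfl

theorem tor_zero (O : OddLifts ψ s) : O.tor ω 0 = 1 := by simp [tor]

/-- The exponent of the last coordinate is determined by the others. -/
def expo (a : Fin 5 → ℕ) (k : Fin 6) : ℕ :=
  if h : k.val < 5 then a ⟨k.val, h⟩ else 2 * (a 0 + a 1 + a 2 + a 3 + a 4)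

theorem act_tor (O : OddLifts ψ s) (hω : ω ^ 2 = ω + 1) (a : Fin 5 → ℕ) (k : Fin 6) (x : F) :
    act (ψ (O.tor ω a)) (Pi.single k x) = Pi.single k (ω ^ expo a k * x) := by
  have hp : ∀ i : Fin 6, i ≠ 5 → ∀ (m : ℕ) (x : F), act (ψ (O.tau ω i 5 ^ m)) (Pi.single k x) =
      Pi.single k (diagC ω i 5 k ^ m * x) := by
    intro i hi m
    induction m with
    | zero => intro x; simp [act_one]
    | succ m ih =>
      intro x
      rw [pow_succ, map_mul, act_mul, O.act_tau hω hi, ih, ← mul_assoc, ← pow_succ]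
  simp only [tor, map_mul, act_mul, hp 0 (by decide), hp 1 (by decide), hp 2 (by decide), hp 3 (by decide),
    hp 4 (by decide)]
  congr 1
  fin_cases k <;> simp [diagC, expo, ← pow_mul, ← mul_assoc, ← pow_add] <;> ring_nf <;> simp

/-- The lift of a Sylow 3-subgroup of the permutations. -/
def rot (_O : OddLifts ψ s) (p q : ℕ) : B :=
  (s (pv 0 1 1) * s (pv 1 2 1)) ^ p * (s (pv 3 4 1) * s (pv 4 5 1)) ^ q

/-- The permutation of `rot`. -/
def rotPerm (p q : ℕ) : Equiv.Perm (Fin 6) :=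
  (Equiv.swap 0 1 * Equiv.swap 1 2) ^ p * (Equiv.swap 3 4 * Equiv.swap 4 5) ^ q

theorem rot_facts (O : OddLifts ψ s) :
    (s (pv 0 1 1) * s (pv 1 2 1)) ^ 3 = 1 ∧ (s (pv 3 4 1) * s (pv 4 5 1)) ^ 3 = 1 ∧
      Commute (s (pv 0 1 1) * s (pv 1 2 1)) (s (pv 3 4 1) * s (pv 4 5 1)) := by
  have hF := O.card
  have hI : ∀ {a b : Fin 6}, a ≠ b → Iso (pv a b (1 : F)) := fun h => pv_iso hF h one_ne_zero
  have hb : ∀ a b c : Fin 6, a ≠ b → b ≠ c → a ≠ c → (s (pv a b 1) * s (pv b c 1)) ^ 3 = 1 := by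
    intro a b c hab hbc hac
    refine braid_cube (O.sq _ (hI hab)) (O.sq _ (hI hbc)) ?_
    have h1 := O.equiv (s (pv a b 1)) _ (hI hbc)
    have h2 := O.equiv (s (pv b c 1)) _ (hI hab)
    rw [O.map_s _ (hI hab), act_swap_pv hF hab, Equiv.swap_apply_right,
      Equiv.swap_apply_of_ne_of_ne hac.symm hbc.symm, O.s_inv (hI hab)] at h1
    rw [O.map_s _ (hI hbc), act_swap_pv hF hbc, Equiv.swap_apply_left,
      Equiv.swap_apply_of_ne_of_ne hab hac, O.s_inv (hI hbc)] at h2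
    rw [h2, h1]
  have hc : ∀ a b c d : Fin 6, a ≠ b → c ≠ d → c ≠ a → c ≠ b → d ≠ a → d ≠ b →
      Commute (s (pv a b 1)) (s (pv c d 1)) := fun a b c d h1 h2 h3 h4 h5 h6 =>
    O.commute_s (hI h1) (hI h2) (pv_orth hF h3 h4 h5 h6 _ _)
  refine ⟨hb 0 1 2 (by decide) (by decide) (by decide), hb 3 4 5 (by decide) (by decide) (by decide), ?_⟩
  exact ((hc 0 1 3 4 (by decide) (by decide) (by decide) (by decide) (by decide) (by decide)).mul_right
      (hc 0 1 4 5 (by decide) (by decide) (by decide) (by decide) (by decide) (by decide))).mul_left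
    ((hc 1 2 3 4 (by decide) (by decide) (by decide) (by decide) (by decide) (by decide)).mul_right
      (hc 1 2 4 5 (by decide) (by decide) (by decide) (by decide) (by decide) (by decide)))

theorem act_rot (O : OddLifts ψ s) (p q : ℕ) (k : Fin 6) (x : F) :
    act (ψ (O.rot p q)) (Pi.single k x) = Pi.single (rotPerm p q k) x := by
  have hF := O.card
  have h1 : ∀ a b c d : Fin 6, a ≠ b → c ≠ d → ∀ (m : ℕ) (k : Fin 6),
      act (ψ ((s (pv a b 1) * s (pv c d 1)) ^ m)) (Pi.single k x) =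
        Pi.single (((Equiv.swap a b * Equiv.swap c d) ^ m) k) x := by
    intro a b c d hab hcd m
    induction m with
    | zero => intro k; simp [act_one]
    | succ m ih =>
      intro k
      rw [pow_succ, map_mul, act_mul, map_mul, O.map_s _ (pv_iso hF hab one_ne_zero),
        O.map_s _ (pv_iso hF hcd one_ne_zero), act_mul, act_swap_single hF hcd, act_swap_single hF hab, ih,
        pow_succ]
      rfl
  rw [rot, map_mul, act_mul, h1 _ _ _ _ (by decide) (by decide), h1 _ _ _ _ (by decide) (by decide)]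
  rfl

theorem rotPerm_inj : ∀ p q p' q' : Fin 3, rotPerm p q 0 = rotPerm p' q' 0 →
    rotPerm p q 3 = rotPerm p' q' 3 → p = p' ∧ q = q' := by
  unfold rotPerm; decide +kernel

theorem injective_torRot (O : OddLifts ψ s) (hω : ω ^ 2 = ω + 1) (a a' : Fin 5 → Fin 3) (p q p' q' : Fin 3)
    (h : ψ (O.tor ω (fun i => a i) * O.rot p q) = ψ (O.tor ω (fun i => a' i) * O.rot p' q')) :
    a = a' ∧ p = p' ∧ q = q' := by
  classical
  have h2 := two_eq_zero O.card
  have hω0 : ω ≠ 0 := fun h => by rw [h] at hω; simp at hω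
  have hω1 : ω ≠ 1 := fun h => by subst h; simp at hω
  have e : ∀ k : Fin 6, (Pi.single (rotPerm p q k) (ω ^ expo (fun i => a i) (rotPerm p q k)) : Fin 6 → F) =
      Pi.single (rotPerm p' q' k) (ω ^ expo (fun i => a' i) (rotPerm p' q' k)) := by
    intro k
    have h1 := congrArg (fun g => act g (Pi.single k (1 : F))) h
    simpa only [map_mul, act_mul, O.act_rot, O.act_tor hω, mul_one] using h1
  have hidx : ∀ k : Fin 6, rotPerm p q k = rotPerm p' q' k := fun k => by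
    by_contra hne
    have h1 := congrFun (e k) (rotPerm p q k)
    rw [Pi.single_eq_same, Pi.single_eq_of_ne hne] at h1
    exact pow_ne_zero _ hω0 h1
  obtain ⟨rfl, rfl⟩ := rotPerm_inj p q p' q' (hidx 0) (hidx 3)
  refine ⟨funext fun i => ?_, rfl, rfl⟩
  have h1 := Pi.single_injective _ (e ((rotPerm p q).symm i.castSucc))
  simp only [Equiv.apply_symm_apply] at h1
  simp only [expo, Fin.coe_castSucc, i.isLt, dif_pos, Fin.eta] at h1
  have hinj : ∀ m n : Fin 3, ω ^ (m : ℕ) = ω ^ (n : ℕ) → m = n := by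
    intro m n
    fin_cases m <;> fin_cases n <;> simp <;> grind
  exact hinj _ _ h1

theorem torRot_split (O : OddLifts ψ s) [Finite B] (hω : ω ^ 2 = ω + 1) :
    ∃ U : Subgroup B, IsPGroup 3 U ∧ U ⊓ ψ.ker = ⊥ ∧ 3 ^ 7 ≤ Nat.card (U.map ψ) := by
  classical
  have : Fact (Nat.Prime 3) := ⟨Nat.prime_three⟩
  have hF := O.card
  obtain ⟨hr1, hr2, hrc⟩ := O.rot_facts
  let T : Subgroup B :=
    { carrier := Set.range (O.tor ω)
      one_mem' := ⟨0, O.tor_zero⟩
      mul_mem' := by rintro _ _ ⟨a, rfl⟩ ⟨b, rfl⟩; exact ⟨a + b, (O.tor_mul hω a b).symm⟩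
      inv_mem' := by
        rintro _ ⟨a, rfl⟩
        refine ⟨2 • a, (inv_eq_of_mul_eq_one_right ?_).symm⟩
        rw [O.tor_mul hω, O.tor_mod hω]
        convert O.tor_zero (ω := ω) using 2
        funext i
        simp only [Pi.add_apply, Pi.smul_apply, Pi.zero_apply, smul_eq_mul]
        omega }
  let C : Subgroup B :=
    { carrier := Set.range fun p : ℕ × ℕ => O.rot p.1 p.2
      one_mem' := ⟨(0, 0), by simp [rot]⟩
      mul_mem' := by
        rintro _ _ ⟨⟨p, q⟩, rfl⟩ ⟨⟨p', q'⟩, rfl⟩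
        refine ⟨(p + p', q + q'), ?_⟩
        simp only [rot, pow_add]
        rw [((hrc.pow_pow p' q).symm).mul_mul_mul_comm]
      inv_mem' := by
        rintro _ ⟨⟨p, q⟩, rfl⟩
        refine ⟨(2 * p, 2 * q), (inv_eq_of_mul_eq_one_right ?_).symm⟩
        simp only [rot]
        rw [((hrc.pow_pow (2 * p) q).symm).mul_mul_mul_comm, ← pow_add, ← pow_add,
          show p + 2 * p = 3 * p by omega, show q + 2 * q = 3 * q by omega, pow_mul, pow_mul, hr1, hr2,
          one_pow, one_pow, one_mul] }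
  have htauT : ∀ i j : Fin 6, i ≠ j → O.tau ω i j ∈ T := by
    have h5 : ∀ i : Fin 6, i ≠ 5 → O.tau ω i 5 ∈ T := fun i hi =>
      ⟨Pi.single ⟨i.val, by omega⟩ 1, by rw [O.tor_single]; congr 1⟩
    intro i j hij
    by_cases hj : j = 5
    · subst hj; exact h5 i hij
    · have hj' : O.tau ω 5 j ∈ T := by rw [O.tau_swap hω hj]; exact inv_mem (h5 j hj)
      by_cases hi : i = 5
      · subst hi; exact hj'
      · rw [← O.tau_add hω hi (Ne.symm hj) hij]; exact mul_mem (h5 i hi) hj'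
  have hnorm1 : ∀ {a b : Fin 6}, a ≠ b → ∀ t ∈ T, s (pv a b 1) * t * (s (pv a b 1))⁻¹ ∈ T := by
    intro a b hab t ht
    obtain ⟨e, rfl⟩ := ht
    have hgen : ∀ i : Fin 6, i ≠ 5 → ∀ m : ℕ,
        s (pv a b 1) * O.tau ω i 5 ^ m * (s (pv a b 1))⁻¹ ∈ T := fun i hi m => by
      rw [← conj_pow, O.conj_tau hω hab hi]
      exact pow_mem (htauT _ _ fun h => hi ((Equiv.swap a b).injective h)) m
    rw [tor]
    rw [show ∀ x y1 y2 y3 y4 y5 : B, x * (y1 * y2 * y3 * y4 * y5) * x⁻¹ = x * y1 * x⁻¹ * (x * y2 * x⁻¹) *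
      (x * y3 * x⁻¹) * (x * y4 * x⁻¹) * (x * y5 * x⁻¹) by intros; group]
    exact mul_mem (mul_mem (mul_mem (mul_mem (hgen 0 (by decide) _) (hgen 1 (by decide) _))
      (hgen 2 (by decide) _)) (hgen 3 (by decide) _)) (hgen 4 (by decide) _)
  have hsnorm : ∀ {a b : Fin 6}, a ≠ b → s (pv a b 1) ∈ Subgroup.normalizer (T : Set B) := by
    intro a b hab
    refine Subgroup.mem_normalizer_iff.2 fun t => ⟨hnorm1 hab t, fun h => ?_⟩
    have h1 := hnorm1 hab _ h
    have e : ∀ x t : B, x * x = 1 → x * (x * t * x⁻¹) * x⁻¹ = t := fun x t hx => by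
      rw [show x * (x * t * x⁻¹) * x⁻¹ = x * x * t * (x * x)⁻¹ by group, hx]; group
    rwa [e _ _ (O.sq _ (pv_iso hF hab one_ne_zero))] at h1
  have hnorm : C ≤ Subgroup.normalizer (T : Set B) := by
    rintro _ ⟨⟨p, q⟩, rfl⟩
    exact mul_mem (pow_mem (mul_mem (hsnorm (by decide)) (hsnorm (by decide))) _)
      (pow_mem (mul_mem (hsnorm (by decide)) (hsnorm (by decide))) _)
  have hT3 : IsPGroup 3 T := by
    rintro ⟨_, a, rfl⟩
    refine ⟨1, Subtype.ext ?_⟩
    show O.tor ω a ^ 3 ^ 1 = 1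
    rw [pow_one, pow_succ, pow_two, O.tor_mul hω, O.tor_mul hω, O.tor_mod hω]
    convert O.tor_zero (ω := ω) using 2
    funext i
    simp only [Pi.add_apply, Pi.zero_apply]
    omega
  have hC3 : IsPGroup 3 C := by
    rintro ⟨_, ⟨p, q⟩, rfl⟩
    refine ⟨1, Subtype.ext ?_⟩
    show O.rot p q ^ 3 ^ 1 = 1
    rw [pow_one, rot, (hrc.pow_pow p q).mul_pow, ← pow_mul, ← pow_mul, mul_comm p, mul_comm q, pow_mul,
      pow_mul, hr1, hr2, one_pow, one_pow, one_mul]
  have hU : IsPGroup 3 (T ⊔ C : Subgroup B) := IsPGroup.to_sup_of_normal_left' hT3 hC3 hnorm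
  have hnf : ∀ x ∈ T ⊔ C, ∃ (a : Fin 5 → Fin 3) (p q : Fin 3), x = O.tor ω (fun i => a i) * O.rot p q := by
    intro x hx
    have hx' : x ∈ ((C ⊔ T : Subgroup B) : Set B) := by rw [sup_comm]; exact hx
    rw [Subgroup.coe_mul_of_left_le_normalizer_right _ _ hnorm] at hx'
    obtain ⟨c, hc, t, ht, rfl⟩ := hx'
    obtain ⟨a, ha⟩ : c * t * c⁻¹ ∈ T := (Subgroup.mem_normalizer_iff.1 (hnorm hc) t).1 ht
    obtain ⟨⟨p, q⟩, hpq⟩ := hc
    refine ⟨fun i => ⟨a i % 3, by omega⟩, ⟨p % 3, by omega⟩, ⟨q % 3, by omega⟩, ?_⟩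
    show c * t = _
    have e : O.rot (p % 3) (q % 3) = c := by
      rw [← hpq]
      simp only [rot]
      conv_rhs => rw [← Nat.mod_add_div p 3, ← Nat.mod_add_div q 3, pow_add, pow_add, pow_mul, pow_mul,
        hr1, hr2, one_pow, one_pow, mul_one, mul_one]
    simp only []
    rw [← O.tor_mod hω, ha, e]
    group
  refine ⟨T ⊔ C, hU, ?_, ?_⟩
  · rw [eq_bot_iff]
    rintro x ⟨hx, hxk⟩
    obtain ⟨a, p, q, rfl⟩ := hnf x hx
    have h := O.injective_torRot hω a (fun _ => 0) p q 0 0 (by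
      rw [MonoidHom.mem_ker.1 hxk]
      simp [tor, rot])
    obtain ⟨rfl, rfl, rfl⟩ := h
    simp [tor, rot]
  · let g : (Fin 5 → Fin 3) × Fin 3 × Fin 3 → ((T ⊔ C).map ψ : Subgroup (Cfsg.SU 6 F 2)) := fun x =>
      ⟨ψ (O.tor ω (fun i => x.1 i) * O.rot x.2.1 x.2.2),
        ⟨_, mul_mem (Subgroup.mem_sup_left ⟨_, rfl⟩) (Subgroup.mem_sup_right ⟨(x.2.1, x.2.2), rfl⟩), rfl⟩⟩
    have hg : Function.Injective g := by
      rintro ⟨a, p, q⟩ ⟨a', p', q'⟩ h
      obtain ⟨rfl, rfl, rfl⟩ := O.injective_torRot hω a a' p q p' q' (congrArg Subtype.val h)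
      rfl
    have h := Nat.card_le_card_of_injective g hg
    simpa using h

end OddLifts

/-- A perfect central extension of SU(6,2) with 3-group kernel is an isomorphism. -/
theorem ker_eq_bot_three [Finite B] (hF : Fintype.card F = 4) (hs : Function.Surjective ψ)
    (hc : ψ.ker ≤ Subgroup.center B) (hp : IsPGroup 3 ψ.ker) (hperf : commutator B = ⊤) : ψ.ker = ⊥ := by
  have : Fact (Nat.Prime 3) := ⟨Nat.prime_three⟩
  obtain ⟨s, O⟩ := exists_oddLifts hF hs hc hp
  obtain ⟨ω, -, hω⟩ := exists_omega hF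
  obtain ⟨U, hU, hUN, hcard⟩ := O.torRot_split hω
  obtain ⟨P, hP⟩ := (IsPGroup.to_sup_of_normal_right hU hp : IsPGroup 3 (U ⊔ ψ.ker : Subgroup B)).exists_le_sylow
  have hker : ψ.ker ≤ (P : Subgroup B) := le_sup_right.trans hP
  have hle : U.map ψ ≤ (P : Subgroup B).map ψ := Subgroup.map_mono (le_sup_left.trans hP)
  have heq : (P : Subgroup B).map ψ = U.map ψ := by
    obtain ⟨e, he⟩ := IsPGroup.iff_card.1 (P.isPGroup'.map ψ)
    have hd := Subgroup.card_subgroup_dvd_card ((P : Subgroup B).map ψ)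
    rw [card_SU6 hF, he] at hd
    have he7 : e ≤ 7 := by
      by_contra hlt
      have h8 := (Nat.pow_dvd_pow 3 (show 8 ≤ e by omega)).trans hd
      norm_num at h8
    refine (Subgroup.eq_of_le_of_card_ge hle ?_).symm
    rw [he]
    exact (Nat.pow_le_pow_right (by norm_num) he7).trans hcard
  have hPU : (P : Subgroup B) ≤ ψ.ker ⊔ U := by
    rw [sup_comm, ← Subgroup.comap_map_eq, ← heq]
    exact Subgroup.le_comap_map _ _
  have h := le_of_sylow_le hc (hperf ▸ le_top) P hker hPU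
  exact le_bot_iff.1 fun x hx => hUN.le ⟨h hx, hx⟩

end Cfsg.Agent.U62Mult
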