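/-
The multiplier of PSU(6,2) is a quotient of C3 × C2 × C2.

Main results (namespace `Cfsg.Agent.U62Mult`):
* `perfect_ker_small`: a perfect central extension of SU(6,2) has kernel of order ≤ 4 and exponent 2;
* `exists_surjection`: the kernel of a stem extension of PSU(6,2) is a quotient of C3 × C2 × C2.
-/
import Cfsg.Agent.Lib.U62Mult.ThreePart
import Cfsg.Agent.Lib.Unitary.Commutator
import Cfsg.Agent.Lib.Schur.Basic
import Cfsg.Prelude.Def_KGroupFacts

set_option autoImplicit false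

namespace Cfsg.Agent.U62Mult

open Cfsg.Agent.Unitary Cfsg.Agent.U62Cover
open scoped commutatorElement

variable {F : Type*} [Field F] [Fintype F]

theorem perfect_ker_small {B : Type*} [Group B] [Finite B] {ψ : B →* Cfsg.SU 6 F 2}
    (hF : Fintype.card F = 4) (hs : Function.Surjective ψ) (hc : ψ.ker ≤ Subgroup.center B)
    (hperf : commutator B = ⊤) : Nat.card ψ.ker ∣ 4 ∧ ∀ k ∈ ψ.ker, k * k = 1 := by
  classical
  have hstem : Cfsg.IsStemExtension ψ := ⟨hs, hc, hperf ▸ le_top⟩
  have hodd : ∀ p : ℕ, p.Prime → p ≠ 2 → ∀ (k : ℕ) (z : B), z ∈ ψ.ker → z ^ p ^ k = 1 → z = 1 := by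
    intro p hp hp2 k z hz hzp
    have : Fact p.Prime := ⟨hp⟩
    by_cases hp3 : p = 3
    · subst hp3
      -- divide out the part prime to 3
      obtain ⟨e, m, hm, hn⟩ := Nat.exists_eq_pow_mul_and_not_dvd (Nat.card_pos (α := ψ.ker)).ne' 3 (by norm_num)
      have hcm : ∀ x ∈ ψ.ker, ∀ g : B, g * x = x * g := fun x hx => Subgroup.mem_center_iff.1 (hc hx)
      let M : Subgroup B :=
        { carrier := {x | x ∈ ψ.ker ∧ x ^ m = 1}
          one_mem' := ⟨one_mem _, one_pow m⟩
          mul_mem' := fun {x y} hx hy => ⟨mul_mem hx.1 hy.1, by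
            rw [(show Commute x y from (hcm x hx.1 y).symm).mul_pow, hx.2, hy.2, one_mul]⟩
          inv_mem' := fun {x} hx => ⟨inv_mem hx.1, by rw [inv_pow, hx.2, inv_one]⟩ }
      have hMle : M ≤ ψ.ker := fun x hx => hx.1
      have hMn : M.Normal := ⟨fun x hx g => by rwa [hcm x hx.1 g, mul_inv_cancel_right]⟩
      let τ : B ⧸ M →* Cfsg.SU 6 F 2 := QuotientGroup.lift M ψ hMle
      have hker : τ.ker = ψ.ker.map (QuotientGroup.mk' M) := QuotientGroup.ker_lift M ψ hMle
      have hbot : τ.ker = ⊥ := by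
        refine ker_eq_bot_three hF (fun g => ?_) ?_ ?_ ?_
        · obtain ⟨x, hx⟩ := hs g
          exact ⟨QuotientGroup.mk' M x, hx⟩
        · rw [hker]
          rintro _ ⟨x, hx, rfl⟩
          rw [Subgroup.mem_center_iff]
          intro g
          obtain ⟨y, rfl⟩ := QuotientGroup.mk'_surjective M g
          rw [← map_mul, ← map_mul, hcm x hx y]
        · rintro ⟨x, hx⟩
          rw [hker] at hx
          obtain ⟨x, hxk, rfl⟩ := hx
          refine ⟨e, Subtype.ext ?_⟩
          show QuotientGroup.mk' M x ^ 3 ^ e = 1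
          rw [← map_pow, QuotientGroup.mk'_apply, QuotientGroup.eq_one_iff]
          refine ⟨pow_mem hxk _, ?_⟩
          rw [← pow_mul, ← hn]
          exact congrArg Subtype.val (pow_card_eq_one' (x := (⟨x, hxk⟩ : ψ.ker)))
        · rw [commutator_def, ← Subgroup.map_top_of_surjective _ (QuotientGroup.mk'_surjective M),
            ← Subgroup.map_commutator, ← commutator_def, hperf]
      have hzM : z ∈ M := by
        rw [← QuotientGroup.eq_one_iff, ← QuotientGroup.mk'_apply, ← Subgroup.mem_bot, ← hbot, hker]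
        exact Subgroup.mem_map_of_mem _ hz
      exact eq_one_of_coprime_pow (((Nat.Prime.coprime_iff_not_dvd Nat.prime_three).2 hm).pow_left k)
        hzp hzM.2
    · have hsq : ¬ p ^ 2 ∣ Nat.card (Cfsg.SU 6 F 2) := by
        rw [card_SU6 hF, show 27590492160 = 2 ^ 15 * 3 ^ 7 * 385 by norm_num]
        intro h
        have h2 : Nat.Coprime (p ^ 2) (2 ^ 15 * 3 ^ 7) :=
          ((((Nat.coprime_primes hp Nat.prime_two).2 hp2).pow_right 15).mul_right
            (((Nat.coprime_primes hp Nat.prime_three).2 hp3).pow_right 7)).pow_left 2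
        have h3 := h2.dvd_of_dvd_mul_left h
        have h4 := Nat.le_of_dvd (by norm_num) h3
        have h5 : p ≤ 19 := by nlinarith
        have := hp.two_le
        interval_cases p <;> first | omega | (norm_num at hp; done) | (norm_num at h3; done)
      by_cases hd : p ∣ Nat.card (Cfsg.SU 6 F 2)
      · obtain ⟨r, hr⟩ := exists_prime_orderOf_dvd_card' (G := Cfsg.SU 6 F 2) p hd
        refine Schur.eq_one_of_cyclic hstem hp r (fun hdi => hsq ?_) hz hzp
        rw [pow_two, ← (Subgroup.zpowers r).card_mul_index, Nat.card_zpowers, hr]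
        exact Nat.mul_dvd_mul_left p hdi
      · refine Schur.eq_one_of_cyclic hstem hp 1 (fun hdi => hd ?_) hz hzp
        rwa [Subgroup.zpowers_one_eq_bot, Subgroup.index_bot] at hdi
  have : Fact (Nat.Prime 2) := ⟨Nat.prime_two⟩
  have h2 : IsPGroup 2 ψ.ker := by
    refine IsPGroup.of_card (n := (Nat.card ψ.ker).primeFactorsList.length)
      (Nat.eq_prime_pow_of_unique_prime_dvd Nat.card_pos.ne' fun {p} hp hd => ?_)
    by_contra hp2
    have : Fact p.Prime := ⟨hp⟩
    obtain ⟨x, hx⟩ := exists_prime_orderOf_dvd_card' (G := ψ.ker) p hd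
    have h1 : (x : B) = 1 := hodd p hp hp2 1 x x.2 (by
      rw [pow_one, ← hx]; exact congrArg Subtype.val (pow_orderOf_eq_one x))
    rw [show x = 1 from Subtype.ext h1, orderOf_one] at hx
    exact hp.ne_one hx.symm
  obtain ⟨hle, hsq⟩ := ker_bound hF hs hc h2 hperf
  obtain ⟨e, he⟩ := IsPGroup.iff_card.1 h2
  refine ⟨?_, hsq⟩
  rw [he] at hle ⊢
  have : e ≤ 2 := (Nat.pow_le_pow_iff_right (le_refl 2)).1 (hle.trans (by norm_num : 4 ≤ 2 ^ 2))
  exact (Nat.pow_dvd_pow 2 this).trans (by norm_num)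

/-- An abelian group of order dividing 12 with `x⁶ = 1` is a quotient of C3 × C2 × C2. -/
theorem exists_surj_of_six {K : Type*} [Group K] [Finite K] (hcomm : ∀ x y : K, x * y = y * x)
    (h6 : ∀ x : K, x ^ 6 = 1) (hcard : Nat.card K ∣ 12) :
    ∃ π : Multiplicative (ZMod 3 × ZMod 2 × ZMod 2) →* K, Function.Surjective π := by
  classical
  let part : ℕ → Subgroup K := fun n =>
    { carrier := {x | x ^ n = 1}
      one_mem' := one_pow n
      mul_mem' := fun {x y} (hx : x ^ n = 1) (hy : y ^ n = 1) => by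
        show (x * y) ^ n = 1
        rw [(show Commute x y from hcomm x y).mul_pow, hx, hy, one_mul]
      inv_mem' := fun {x} (hx : x ^ n = 1) => by show x⁻¹ ^ n = 1; rw [inv_pow, hx, inv_one] }
  have hbound : ∀ (p : ℕ) (hp : p.Prime), p ∣ 12 → ∀ e, IsPGroup p (part e) → ∃ j, Nat.card (part e) = p ^ j ∧
      p ^ j ∣ 12 := fun p hp _ e h => by
    have : Fact p.Prime := ⟨hp⟩
    obtain ⟨j, hj⟩ := IsPGroup.iff_card.1 h
    exact ⟨j, hj, hj ▸ (Subgroup.card_subgroup_dvd_card _).trans hcard⟩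
  have hmem : ∀ {n : ℕ} {x : K}, x ∈ part n ↔ x ^ n = 1 := Iff.rfl
  obtain ⟨u, hu3, hgen3⟩ : ∃ u : K, u ^ 3 = 1 ∧ ∀ x ∈ part 3, ∃ a : ℕ, x = u ^ a := by
    by_cases h : ∀ x ∈ part 3, x = (1 : K)
    · exact ⟨1, one_pow 3, fun x hx => ⟨0, by rw [h x hx, pow_zero]⟩⟩
    simp only [not_forall] at h
    obtain ⟨u, hu, hu1⟩ := h
    obtain ⟨j, hj, hj'⟩ := hbound 3 Nat.prime_three (by norm_num) 3
      (fun x => ⟨1, Subtype.ext (by rw [pow_one, SubgroupClass.coe_pow]; exact x.2)⟩)
    have : Fact (Nat.Prime 3) := ⟨Nat.prime_three⟩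
    have hj1 : j ≤ 1 := by
      by_contra hc
      have := (Nat.pow_dvd_pow 3 (show 2 ≤ j by omega)).trans hj'
      norm_num at this
    have hord : orderOf u = 3 := orderOf_eq_prime hu hu1
    have heq : Subgroup.zpowers u = part 3 := by
      refine Subgroup.eq_of_le_of_card_ge (Subgroup.zpowers_le.2 hu) ?_
      rw [Nat.card_zpowers, hord, hj]
      exact (Nat.pow_le_pow_right (by norm_num) hj1).trans (by norm_num)
    refine ⟨u, hu, fun x hx => ?_⟩
    rw [← heq] at hx
    obtain ⟨a, ha⟩ := mem_powers_iff_mem_zpowers.2 hx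
    exact ⟨a, ha.symm⟩
  obtain ⟨v, w, hv, hw, hgen2⟩ : ∃ v w : K, v ^ 2 = 1 ∧ w ^ 2 = 1 ∧
      ∀ x ∈ part 2, ∃ a b : ℕ, x = v ^ a * w ^ b := by
    by_cases h : ∀ x ∈ part 2, x = (1 : K)
    · exact ⟨1, 1, one_pow 2, one_pow 2, fun x hx => ⟨0, 0, by simp [h x hx]⟩⟩
    simp only [not_forall] at h
    obtain ⟨v, hv, hv1⟩ := h
    by_cases h2 : ∀ x ∈ part 2, x = 1 ∨ x = v
    · refine ⟨v, 1, hv, one_pow 2, fun x hx => ?_⟩
      rcases h2 x hx with e | e
      exacts [⟨0, 0, by simp [e]⟩, ⟨1, 0, by simp [e]⟩]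
    simp only [not_forall, not_or] at h2
    obtain ⟨w, hw, hw1, hwv⟩ := h2
    obtain ⟨j, hj, hj'⟩ := hbound 2 Nat.prime_two (by norm_num) 2
      (fun x => ⟨1, Subtype.ext (by rw [pow_one, SubgroupClass.coe_pow]; exact x.2)⟩)
    have hj2 : j ≤ 2 := by
      by_contra hc
      have := (Nat.pow_dvd_pow 2 (show 3 ≤ j by omega)).trans hj'
      norm_num at this
    refine ⟨v, w, hv, hw, fun x hx => ?_⟩
    by_contra hne
    simp only [not_exists] at hne
    have n0 := hne 0 0
    have n1 := hne 1 0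
    have n2 := hne 0 1
    have n3 := hne 1 1
    simp only [pow_zero, pow_one, one_mul, mul_one] at n0 n1 n2 n3
    have e : ∀ {a b : K}, a * b = 1 → a ^ 2 = 1 → b = a := fun {a b} h h' => by
      rw [← inv_eq_of_mul_eq_one_right h, inv_eq_of_mul_eq_one_right (a := a) (b := a) (by rw [← pow_two, h'])]
    have hsub : ({1, v, w, v * w, x} : Finset K) ⊆ (Set.toFinite (part 2 : Set K)).toFinset := by
      intro y hy
      simp only [Set.Finite.mem_toFinset, SetLike.mem_coe]
      simp only [Finset.mem_insert, Finset.mem_singleton] at hy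
      rcases hy with rfl | rfl | rfl | rfl | rfl
      exacts [one_mem _, hv, hw, mul_mem hv hw, hx]
    have h5 : ({1, v, w, v * w, x} : Finset K).card = 5 := by
      rw [Finset.card_insert_of_notMem, Finset.card_insert_of_notMem, Finset.card_insert_of_notMem,
        Finset.card_insert_of_notMem, Finset.card_singleton]
      · simp only [Finset.mem_singleton]; exact Ne.symm n3
      · simp only [Finset.mem_insert, Finset.mem_singleton, not_or]
        exact ⟨fun h => hv1 (mul_eq_right.1 h.symm), Ne.symm n2⟩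
      · simp only [Finset.mem_insert, Finset.mem_singleton, not_or]
        exact ⟨Ne.symm hwv, fun h => hw1 (mul_eq_left.1 h.symm), Ne.symm n1⟩
      · simp only [Finset.mem_insert, Finset.mem_singleton, not_or]
        exact ⟨Ne.symm hv1, Ne.symm hw1, fun h => hwv (e h.symm hv), Ne.symm n0⟩
    have := Finset.card_le_card hsub
    rw [h5, ← Nat.card_eq_card_finite_toFinset, SetLike.coe_sort_coe, hj] at this
    have := this.trans (Nat.pow_le_pow_right (by norm_num) hj2)
    norm_num at this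
  have hmod : ∀ {n : ℕ} [NeZero n] {g : K}, g ^ n = 1 → ∀ a b : ZMod n,
      g ^ (a + b).val = g ^ a.val * g ^ b.val := fun {n} _ {g} hg a b => by
    rw [← pow_add, ZMod.val_add, ← pow_mod_orderOf, Nat.mod_mod_of_dvd _ (orderOf_dvd_of_pow_eq_one hg),
      pow_mod_orderOf]
  let π : Multiplicative (ZMod 3 × ZMod 2 × ZMod 2) →* K :=
    { toFun := fun q => u ^ q.toAdd.1.val * (v ^ q.toAdd.2.1.val * w ^ q.toAdd.2.2.val)
      map_one' := by simp
      map_mul' := fun p q => by
        simp only [toAdd_mul, Prod.fst_add, Prod.snd_add]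
        rw [hmod hu3, hmod hv, hmod hw]
        have hC : ∀ x y : K, Commute x y := fun x y => hcomm x y
        conv_rhs => rw [(hC _ _).mul_mul_mul_comm]
        congr 1
        exact (hC _ _).mul_mul_mul_comm _ _ }
  refine ⟨π, fun x => ?_⟩
  have h3 : x ^ 4 ∈ part 3 := by rw [hmem, ← pow_mul, show 4 * 3 = 6 * 2 from rfl, pow_mul, h6, one_pow]
  have h2 : x ^ 3 ∈ part 2 := by rw [hmem, ← pow_mul]; exact h6 x
  obtain ⟨a, ha⟩ := hgen3 _ h3
  obtain ⟨b, c, hbc⟩ := hgen2 _ h2
  refine ⟨Multiplicative.ofAdd ((a : ZMod 3), (b : ZMod 2), (c : ZMod 2)), ?_⟩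
  show u ^ (a : ZMod 3).val * (v ^ (b : ZMod 2).val * w ^ (c : ZMod 2).val) = x
  have hred : ∀ {n : ℕ} [NeZero n] {g : K}, g ^ n = 1 → ∀ m : ℕ, g ^ (m : ZMod n).val = g ^ m :=
    fun {n} _ {g} hg m => by
      rw [ZMod.val_natCast, ← pow_mod_orderOf, Nat.mod_mod_of_dvd _ (orderOf_dvd_of_pow_eq_one hg),
        pow_mod_orderOf]
  rw [hred hu3, hred hv, hred hw, ← ha, ← hbc, ← pow_add, show 4 + 3 = 6 + 1 from rfl, pow_succ, h6, one_mul]

universe u

theorem exists_surjection {F : Type u} [Field F] [Fintype F] (hF : Fintype.card F = 4) (Γ : Type u) [Group Γ]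
    [Finite Γ] (σ : Γ →* Cfsg.PSU 6 F 2) (hσ : Cfsg.IsStemExtension σ) :
    ∃ π : Multiplicative (ZMod 3 × ZMod 2 × ZMod 2) →* σ.ker, Function.Surjective π := by
  classical
  have hSU : commutator (Cfsg.SU 6 F 2) = ⊤ := commutator_SU_eq_top (card_sq hF) (Or.inl (by norm_num))
  let q := QuotientGroup.mk' (Subgroup.center (Cfsg.SU 6 F 2))
  have hq : Function.Surjective q := QuotientGroup.mk'_surjective _
  let Δ : Subgroup (Γ × Cfsg.SU 6 F 2) :=
    { carrier := {p | σ p.1 = q p.2}
      one_mem' := by simp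
      mul_mem' := fun {a b} (ha : σ a.1 = q a.2) (hb : σ b.1 = q b.2) => by
        show σ (a * b).1 = q (a * b).2
        simp [ha, hb]
      inv_mem' := fun {a} (ha : σ a.1 = q a.2) => by
        show σ a⁻¹.1 = q a⁻¹.2
        simp [ha] }
  let f1 : Δ →* Γ := (MonoidHom.fst _ _).comp Δ.subtype
  let f2 : Δ →* Cfsg.SU 6 F 2 := (MonoidHom.snd _ _).comp Δ.subtype
  have hf1 : Function.Surjective f1 := fun g => by
    obtain ⟨x, hx⟩ := hq (σ g)
    exact ⟨⟨(g, x), hx.symm⟩, rfl⟩
  have hf2 : Function.Surjective f2 := fun x => by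
    obtain ⟨g, hg⟩ := hσ.1 (q x)
    exact ⟨⟨(g, x), hg⟩, rfl⟩
  have hΓ : commutator Γ = ⊤ := by
    refine eq_top_iff.2 fun g _ => ?_
    have hPSU : commutator (Cfsg.PSU 6 F 2) = ⊤ := by
      rw [commutator_def, ← Subgroup.map_top_of_surjective q hq, ← Subgroup.map_commutator, ← commutator_def,
        hSU, Subgroup.map_top_of_surjective q hq]
    have hmap : (commutator Γ).map σ = ⊤ := by
      rw [commutator_def, Subgroup.map_commutator, Subgroup.map_top_of_surjective σ hσ.1]; exact hPSU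
    obtain ⟨c, hc, hce⟩ : σ g ∈ (commutator Γ).map σ := hmap ▸ Subgroup.mem_top _
    have : c⁻¹ * g ∈ σ.ker := by rw [MonoidHom.mem_ker, map_mul, map_inv, hce, inv_mul_cancel]
    rw [show g = c * (c⁻¹ * g) by group]
    exact mul_mem hc (hσ.2.2 this)
  -- the perfect group
  let ψ : commutator Δ →* Cfsg.SU 6 F 2 := f2.comp (commutator Δ).subtype
  let φ : commutator Δ →* Γ := f1.comp (commutator Δ).subtype
  have hψ : Function.Surjective ψ := by
    rw [← MonoidHom.range_eq_top, MonoidHom.range_comp, Subgroup.range_subtype, commutator_def,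
      Subgroup.map_commutator, Subgroup.map_top_of_surjective f2 hf2]
    exact hSU
  have hφ : Function.Surjective φ := by
    rw [← MonoidHom.range_eq_top, MonoidHom.range_comp, Subgroup.range_subtype, commutator_def,
      Subgroup.map_commutator, Subgroup.map_top_of_surjective f1 hf1]
    exact hΓ
  have hcen : ∀ d : Δ, f1 d ∈ Subgroup.center Γ → f2 d ∈ Subgroup.center _ → ∀ e : Δ, e * d = d * e :=
    fun d h1 h2 e => Subtype.ext (Prod.ext (Subgroup.mem_center_iff.1 h1 _) (Subgroup.mem_center_iff.1 h2 _))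
  have hker : ∀ d : Δ, f2 d = 1 → f1 d ∈ Subgroup.center Γ := fun d hd => hσ.2.1 (by
    rw [MonoidHom.mem_ker]
    refine Eq.trans d.2 ?_
    show q (f2 d) = 1
    rw [hd, map_one])
  have hc : ψ.ker ≤ Subgroup.center (commutator Δ) := fun b hb => Subgroup.mem_center_iff.2 fun e =>
    Subtype.ext (hcen b (hker b hb) (by rw [show f2 (b : Δ) = 1 from hb]; exact one_mem _) e)
  have hperf : commutator (commutator Δ) = ⊤ := by
    rw [eq_top_iff]
    rintro ⟨d, hd⟩ -
    have key : commutator Δ ≤ (commutator (commutator Δ)).map (commutator Δ).subtype := by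
      refine (commutator_def _).le.trans (Subgroup.commutator_le.2 ?_)
      intro a _ b _
      obtain ⟨a', ha⟩ := hψ (f2 a)
      obtain ⟨b', hb⟩ := hψ (f2 b)
      have hz : ∀ x x' : Δ, f2 x = f2 x' → ∀ y : Δ, ⁅x, y⁆ = ⁅x', y⁆ := by
        intro x x' h y
        have hk : f2 (x'⁻¹ * x) = 1 := by rw [map_mul, map_inv, h, inv_mul_cancel]
        have hcm := hcen _ (hker _ hk) (hk ▸ one_mem _) y
        rw [commutatorElement_def, commutatorElement_def,
          show x * y * x⁻¹ * y⁻¹ = x' * (x'⁻¹ * x * y) * x⁻¹ * y⁻¹ by group, ← hcm,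
          show x' * (y * (x'⁻¹ * x)) * x⁻¹ * y⁻¹ = x' * y * x'⁻¹ * y⁻¹ by group]
      refine ⟨⁅a', b'⁆, ?_, ?_⟩
      · exact Subgroup.commutator_mem_commutator (Subgroup.mem_top _) (Subgroup.mem_top _)
      · rw [map_commutatorElement, ← hz a ((commutator Δ).subtype a') ha.symm, ← commutatorElement_inv b a,
          hz b ((commutator Δ).subtype b') hb.symm, commutatorElement_inv]
    obtain ⟨x, hx, hxd⟩ := key hd
    rwa [show (⟨d, hd⟩ : commutator Δ) = x from Subtype.ext hxd.symm]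
  obtain ⟨hcard, hsq⟩ := perfect_ker_small hF hψ hc hperf
  -- the preimage of the kernel
  let L : Subgroup (commutator Δ) := (σ.comp φ).ker
  have hLZ : ∀ b ∈ L, ψ b ∈ Subgroup.center _ := fun b hb => by
    rw [← QuotientGroup.eq_one_iff]
    exact (b : Δ).2.symm.trans hb
  have hL6 : ∀ b ∈ L, b ^ 6 = 1 := by
    intro b hb
    have h3 : ψ (b ^ 3) = 1 := by
      rw [map_pow]
      obtain ⟨z, -, hz3, hz⟩ := center_SU_scalar (card_sq hF) (by norm_num) (hLZ b hb)
      refine Subtype.ext (Subtype.ext ?_)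
      show (U62Cover.mt (ψ b)) ^ 3 = 1
      rw [show U62Cover.mt (ψ b) = _ from hz, ← map_pow, hz3, map_one]
    show b ^ (3 * 2) = 1
    rw [pow_mul, pow_two]
    exact hsq _ (MonoidHom.mem_ker.2 h3)
  have hL12 : Nat.card L ∣ 12 := by
    let g : L →* Subgroup.center (Cfsg.SU 6 F 2) := (ψ.comp L.subtype).codRestrict _ fun b => hLZ b b.2
    rw [← g.ker.card_mul_index, Subgroup.index_ker, show 12 = 4 * 3 from rfl]
    refine Nat.mul_dvd_mul ?_ ?_
    · refine (?_ : Nat.card g.ker ∣ _).trans hcard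
      let i : g.ker →* ψ.ker :=
        ((L.subtype).comp g.ker.subtype).codRestrict ψ.ker fun b => congrArg Subtype.val b.2
      refine Subgroup.card_dvd_of_injective i fun a b h => Subtype.ext (Subtype.ext ?_)
      exact congrArg (fun x : ψ.ker => (x : commutator Δ)) h
    · refine (Subgroup.card_subgroup_dvd_card _).trans ?_
      rw [card_center_SU (card_sq hF) (by norm_num)]
      norm_num
  let p : L →* σ.ker := (φ.comp L.subtype).codRestrict σ.ker fun b => b.2
  have hp : Function.Surjective p := by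
    rintro ⟨k, hk⟩
    obtain ⟨b, rfl⟩ := hφ k
    exact ⟨⟨b, hk⟩, rfl⟩
  refine exists_surj_of_six (fun x y => Subtype.ext (Subgroup.mem_center_iff.1 (hσ.2.1 y.2) x.1)) ?_
    ((Subgroup.card_dvd_of_surjective p hp).trans hL12)
  intro x
  obtain ⟨⟨b, hb⟩, rfl⟩ := hp x
  rw [← map_pow, show (⟨b, hb⟩ : L) ^ 6 = 1 from Subtype.ext (hL6 b hb), map_one]

end Cfsg.Agent.U62Mult
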