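/-
A stem extension of PSU(6,2) with kernel C3 × C2 × C2.

Main result (namespace `Cfsg.Agent.U62Mult`): `exists_cover`.

It is the derived group of the fibre product of SU(6,2), the double cover in Fi22 and the same double
cover twisted by a diagonal automorphism; a certified word separates the two double covers.
-/
import Cfsg.Agent.Lib.U62Mult.CoverChecks
import Cfsg.Agent.Lib.U62Mult.Upper

set_option autoImplicit false
set_option maxRecDepth 10000

namespace Cfsg.Agent.U62Mult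

open Cfsg.Agent.CosetEnum Cfsg.Agent.CosetEnum.Data
open Cfsg.Agent.Fi22U62
open Cfsg.Agent.Unitary (GF4)
open scoped commutatorElement

theorem hs_top (R : Subgroup Hs) (h : ∀ k < 9, hel k ∈ R) : R = ⊤ := by
  rw [eq_top_iff]
  rintro ⟨g, hg⟩ -
  induction hg using Subgroup.closure_induction with
  | mem g hg =>
    obtain ⟨r, hr, rfl⟩ := hg
    obtain ⟨k, hk, rfl⟩ := List.mem_iff_getElem.mp hr
    have e : (⟨_, Subgroup.subset_closure ⟨_, hr, rfl⟩⟩ : Hs) = hel k := by
      apply Subtype.ext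
      rw [hel, dif_pos (show k < 9 from hk)]
      show _ = hgen k
      rw [hgen, List.getD_eq_getElem _ _ hk]
    exact e ▸ h k hk
  | one => exact one_mem R
  | mul x y hx hy ihx ihy => exact mul_mem ihx ihy
  | inv x hx ihx => exact inv_mem ihx

theorem map_ev_of {G H : Type*} [Group G] [Group H] (φ : G →* H) (f : ℕ → G) (g : ℕ → H) :
    ∀ w : List ℕ, (∀ a ∈ w, φ (f a) = g a) → φ (ev f w) = ev g w
  | [], _ => map_one φ
  | a :: v, h => by
    show φ (ev f v * f a) = ev g v * g a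
    rw [map_mul, map_ev_of φ f g v (fun b hb => h b (List.mem_cons_of_mem a hb)), h a List.mem_cons_self]

theorem ev_flatMap {G : Type*} [Group G] (f : ℕ → G) (d : ℕ → List ℕ) :
    ∀ w : List ℕ, ev (fun k => ev f (d k)) w = ev f (w.flatMap d)
  | [] => rfl
  | a :: v => by
    show ev (fun k => ev f (d k)) v * ev f (d a) = _
    rw [ev_flatMap f d v, List.flatMap_cons, ev_append]

theorem ev_eq_prod {G : Type*} [CommGroup G] (f : ℕ → G) : ∀ w : List ℕ, ev f w = (w.map f).prod
  | [] => rfl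
  | a :: v => by
    show ev f v * f a = _
    rw [ev_eq_prod f v, List.map_cons, List.prod_cons, mul_comm]

/-- The fibre product. -/
noncomputable def fib : Subgroup (Cfsg.SU 6 GF4 2 × Hs × Hs) where
  carrier := {p | phi p.2.1 = pperm p.1 ∧ phi p.2.2 = dperm * pperm p.1 * dperm⁻¹}
  one_mem' := by simp
  mul_mem' := by
    rintro ⟨x, a, b⟩ ⟨y, c, d⟩ ⟨h1, h2⟩ ⟨h3, h4⟩
    refine ⟨?_, ?_⟩
    · simp only [Prod.mk_mul_mk, map_mul] at *
      rw [h1, h3]
    · simp only [Prod.mk_mul_mk, map_mul] at *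
      rw [h2, h4]; group
  inv_mem' := by
    rintro ⟨x, a, b⟩ ⟨h1, h2⟩
    refine ⟨?_, ?_⟩
    · simp only [Prod.inv_mk, map_inv] at *
      rw [h1]
    · simp only [Prod.inv_mk, map_inv] at *
      rw [h2]; group

/-- first projection -/
noncomputable def pr1 : fib →* Cfsg.SU 6 GF4 2 := (MonoidHom.fst _ _).comp fib.subtype

/-- second projection -/
noncomputable def pr2 : fib →* Hs := ((MonoidHom.fst _ _).comp (MonoidHom.snd _ _)).comp fib.subtype

/-- third projection -/
noncomputable def pr3 : fib →* Hs := ((MonoidHom.snd _ _).comp (MonoidHom.snd _ _)).comp fib.subtype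

theorem fib_spec (d : fib) : phi (pr2 d) = pperm (pr1 d) ∧ phi (pr3 d) = dperm * pperm (pr1 d) * dperm⁻¹ := d.2

theorem fib_ext {d e : fib} (h1 : pr1 d = pr1 e) (h2 : pr2 d = pr2 e) (h3 : pr3 d = pr3 e) : d = e :=
  Subtype.ext (Prod.ext h1 (Prod.ext h2 h3))

/-- the lifted generators -/
noncomputable def gtup (k : ℕ) : fib :=
  if hk : k - 1 < 8 ∧ 0 < k then
    ⟨(Fi22U62.tv _ (iso_gvec ⟨k - 1, hk.1⟩), hel k, ev hel (dw k)), by
      obtain ⟨j, rfl⟩ : ∃ j, k = j + 1 := ⟨k - 1, by omega⟩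
      have hj : j < 8 := by omega
      refine ⟨?_, ?_⟩
      · show phi (hel (j + 1)) = pperm (Fi22U62.tv _ (iso_gvec ⟨j, hj⟩))
        rw [phi_hel (by omega), gperm, dif_pos hj]
      · show phi (ev hel (dw (j + 1))) = dperm * pperm (Fi22U62.tv _ (iso_gvec ⟨j, hj⟩)) * dperm⁻¹
        rw [phi_twist hj, gperm, dif_pos hj]⟩
  else 1

theorem gtup_spec {k : ℕ} (h0 : 0 < k) (hk : k < 9) :
    pr2 (gtup k) = hel k ∧ pr3 (gtup k) = ev hel (dw k) := by
  rw [gtup, dif_pos ⟨by omega, h0⟩]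
  exact ⟨rfl, rfl⟩

theorem gtup_sq (k : ℕ) : gtup k * gtup k = 1 := by
  rw [gtup]
  split
  case isTrue hk =>
    apply Subtype.ext
    refine Prod.ext ?_ (Prod.ext ?_ ?_)
    · have hI := iso_gvec ⟨k - 1, hk.1⟩
      refine Unitary.suAct_ext fun x => ?_
      show Unitary.suAct (Fi22U62.tv _ hI * Fi22U62.tv _ hI) x = Unitary.suAct 1 x
      rw [Unitary.suAct_mul, Fi22U62.tv_apply hI, Fi22U62.tv_apply hI, Unitary.suAct_one,
        (Unitary.hermForm_isHerm Fi22U62.hF 6).add_left, (Unitary.hermForm_isHerm Fi22U62.hF 6).smul_left,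
        hI.2, mul_zero, add_zero]
      funext i
      have h2 : ∀ a : GF4, a + a = 0 := by decide
      simp only [Pi.add_apply, Pi.smul_apply, add_assoc, h2, add_zero]
    · exact (hel_sq (k := k) (by omega)).1
    · exact (hel_sq (k := k) (by omega)).2
  case isFalse => exact one_mul 1

/-- a central element of SU as a fibre element -/
noncomputable def ofCenter (z : Cfsg.SU 6 GF4 2) (hz : z ∈ Subgroup.center (Cfsg.SU 6 GF4 2)) : fib :=
  ⟨(z, 1, 1), by
    have h : pperm z = 1 := by rw [← ker_pperm] at hz; exact hz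
    exact ⟨by rw [map_one, h], by rw [map_one, h]; group⟩⟩

theorem pr1_surjective : Function.Surjective pr1 := by
  intro x
  have hS : (pr1.range.map pperm).comap phi = ⊤ := by
    refine hs_top _ fun k hk => ?_
    rw [Subgroup.mem_comap, phi_hel hk]
    rcases Nat.eq_zero_or_pos k with rfl | h0
    · exact one_mem _
    · obtain ⟨j, rfl⟩ : ∃ j, k = j + 1 := ⟨k - 1, by omega⟩
      refine ⟨pr1 (gtup (j + 1)), ⟨_, rfl⟩, ?_⟩
      rw [← (fib_spec _).1, (gtup_spec h0 hk).1, phi_hel hk]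
  obtain ⟨h, hh⟩ : pperm x ∈ phi.range := range_eq ▸ ⟨x, rfl⟩
  obtain ⟨y, ⟨d, rfl⟩, hy⟩ : phi h ∈ pr1.range.map pperm := by
    rw [← Subgroup.mem_comap, hS]; exact Subgroup.mem_top h
  have hz : (pr1 d)⁻¹ * x ∈ Subgroup.center (Cfsg.SU 6 GF4 2) := by
    rw [← ker_pperm, MonoidHom.mem_ker, map_mul, map_inv, hy, hh, inv_mul_cancel]
  refine ⟨d * ofCenter _ hz, ?_⟩
  rw [map_mul]
  exact mul_inv_cancel_left _ _

theorem pr2_surjective : Function.Surjective pr2 := by
  rw [← MonoidHom.range_eq_top]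
  refine hs_top _ fun k hk => ?_
  rcases Nat.eq_zero_or_pos k with rfl | h0
  · refine ⟨⟨(1, hel 0, 1), ?_, ?_⟩, rfl⟩
    · show phi (hel 0) = pperm 1
      rw [map_one pperm, phi_hel hk]; rfl
    · show phi 1 = dperm * pperm 1 * dperm⁻¹
      rw [map_one, map_one]; group
  · exact ⟨gtup k, (gtup_spec h0 hk).1⟩

theorem phi_eq_one {d : fib} (h : pr1 d ∈ Subgroup.center (Cfsg.SU 6 GF4 2)) :
    phi (pr2 d) = 1 ∧ phi (pr3 d) = 1 := by
  rw [← ker_pperm, MonoidHom.mem_ker] at h
  rw [(fib_spec d).1, (fib_spec d).2, h]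
  exact ⟨rfl, by group⟩

theorem central_of_center {d : fib} (h : pr1 d ∈ Subgroup.center (Cfsg.SU 6 GF4 2)) (e : fib) : e * d = d * e := by
  obtain ⟨h2, h3⟩ := phi_eq_one h
  refine fib_ext ?_ ?_ ?_ <;> rw [map_mul, map_mul]
  · exact Subgroup.mem_center_iff.1 h _
  · exact Subgroup.mem_center_iff.1 (center_eq_ker ▸ MonoidHom.mem_ker.2 h2) _
  · exact Subgroup.mem_center_iff.1 (center_eq_ker ▸ MonoidHom.mem_ker.2 h3) _

theorem commutator_su : commutator (Cfsg.SU 6 GF4 2) = ⊤ :=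
  Unitary.commutator_SU_eq_top Fi22U62.hF (Or.inl (by norm_num))

theorem commutator_hs : commutator Hs = ⊤ := by
  have hmap : (commutator Hs).map phi = phi.range := by
    rw [commutator_def, Subgroup.map_commutator, ← MonoidHom.range_eq_map, range_eq, MonoidHom.range_eq_map,
      ← Subgroup.map_commutator, ← commutator_def, commutator_su]
  have hsup : commutator Hs ⊔ phi.ker = ⊤ := by
    rw [← Subgroup.comap_map_eq, hmap]
    exact eq_top_iff.2 fun x _ => ⟨x, rfl⟩
  by_contra hne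
  let p : phi.ker →* Hs ⧸ commutator Hs := (QuotientGroup.mk' (commutator Hs)).comp phi.ker.subtype
  have hp : Function.Surjective p := by
    intro y
    obtain ⟨x, rfl⟩ := QuotientGroup.mk'_surjective _ y
    obtain ⟨c, hc, k, hk, rfl⟩ := Subgroup.mem_sup_of_normal_left.1 (hsup ▸ Subgroup.mem_top x)
    refine ⟨⟨k, hk⟩, ?_⟩
    show QuotientGroup.mk' (commutator Hs) k = _
    rw [map_mul, show QuotientGroup.mk' (commutator Hs) c = 1 from (QuotientGroup.eq_one_iff c).2 hc, one_mul]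
  have : Finite phi.ker := Nat.finite_of_card_ne_zero (by rw [card_ker]; norm_num)
  have hd := Subgroup.card_dvd_of_surjective p hp
  rw [card_ker] at hd
  rcases (Nat.dvd_prime Nat.prime_two).1 hd with h | h
  · exact hne (Subgroup.index_eq_one.1 h)
  · have : Fact (Nat.Prime 2) := ⟨Nat.prime_two⟩
    let e : Hs ⧸ commutator Hs ≃* Multiplicative (ZMod 2) := mulEquivOfPrimeCardEq h (by simp)
    have h1 := hom_eq_one (e.toMonoidHom.comp (QuotientGroup.mk' _))
    refine hne (eq_top_iff.2 fun x _ => (QuotientGroup.eq_one_iff x).1 (e.injective ?_))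
    rw [map_one]
    exact DFunLike.congr_fun h1 x

/-- the covering group -/
noncomputable abbrev cov : Subgroup fib := commutator fib

/-- the covering map -/
noncomputable def covMap : cov →* Cfsg.PSU 6 GF4 2 :=
  ((QuotientGroup.mk' (Subgroup.center (Cfsg.SU 6 GF4 2))).comp pr1).comp cov.subtype

theorem mem_ker_covMap {g : cov} : g ∈ covMap.ker ↔ pr1 (g : fib) ∈ Subgroup.center (Cfsg.SU 6 GF4 2) :=
  MonoidHom.mem_ker.trans (QuotientGroup.eq_one_iff _)

theorem exists_cov_pr1 (x : Cfsg.SU 6 GF4 2) : ∃ g ∈ cov, pr1 g = x := by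
  have : cov.map pr1 = ⊤ := by
    show (commutator fib).map pr1 = ⊤
    rw [commutator_def, Subgroup.map_commutator, Subgroup.map_top_of_surjective _ pr1_surjective,
      ← commutator_def, commutator_su]
  exact Subgroup.mem_map.1 (this ▸ Subgroup.mem_top x)

theorem exists_cov_pr2 (x : Hs) : ∃ g ∈ cov, pr2 g = x := by
  have : cov.map pr2 = ⊤ := by
    show (commutator fib).map pr2 = ⊤
    rw [commutator_def, Subgroup.map_commutator, Subgroup.map_top_of_surjective _ pr2_surjective,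
      ← commutator_def, commutator_hs]
  exact Subgroup.mem_map.1 (this ▸ Subgroup.mem_top x)

theorem covMap_stem : Cfsg.IsStemExtension covMap := by
  refine ⟨fun y => ?_, fun g hg => ?_, fun g _ => ?_⟩
  · obtain ⟨x, rfl⟩ := QuotientGroup.mk_surjective y
    obtain ⟨g, hg, rfl⟩ := exists_cov_pr1 x
    exact ⟨⟨g, hg⟩, rfl⟩
  · exact Subgroup.mem_center_iff.2 fun e => Subtype.ext (central_of_center (mem_ker_covMap.1 hg) e)
  · obtain ⟨d, hd⟩ := g
    have key : cov ≤ (commutator cov).map cov.subtype := by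
      refine (commutator_def _).le.trans (Subgroup.commutator_le.2 ?_)
      intro a _ b _
      obtain ⟨a', ha', ha⟩ := exists_cov_pr1 (pr1 a)
      obtain ⟨b', hb', hb⟩ := exists_cov_pr1 (pr1 b)
      have hz : ∀ x x' : fib, pr1 x = pr1 x' → ∀ y : fib, ⁅x, y⁆ = ⁅x', y⁆ := by
        intro x x' h y
        have hk : pr1 (x'⁻¹ * x) ∈ Subgroup.center (Cfsg.SU 6 GF4 2) := by
          rw [map_mul, map_inv, h, inv_mul_cancel]; exact one_mem _
        have hcm := central_of_center hk y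
        rw [commutatorElement_def, commutatorElement_def,
          show x * y * x⁻¹ * y⁻¹ = x' * (x'⁻¹ * x * y) * x⁻¹ * y⁻¹ by group, ← hcm,
          show x' * (y * (x'⁻¹ * x)) * x⁻¹ * y⁻¹ = x' * y * x'⁻¹ * y⁻¹ by group]
      refine ⟨⁅(⟨a', ha'⟩ : cov), ⟨b', hb'⟩⁆,
        Subgroup.commutator_mem_commutator (Subgroup.mem_top _) (Subgroup.mem_top _), ?_⟩
      rw [map_commutatorElement, hz a a' ha.symm, ← commutatorElement_inv b a', hz b b' hb.symm,
        commutatorElement_inv]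
      rfl
    obtain ⟨x, hx, hxd⟩ := key hd
    rwa [show (⟨d, hd⟩ : cov) = x from Subtype.ext hxd.symm]

/-- the separating element -/
noncomputable def wit : fib := ev gtup witW

theorem wit_mem : wit ∈ cov := by
  show ev gtup witW ∈ commutator fib
  rw [← Abelianization.ker_of, MonoidHom.mem_ker,
    map_ev_of Abelianization.of gtup (fun k => Abelianization.of (gtup k)) _ (fun _ _ => rfl), ev_eq_prod,
    Finset.prod_list_map_count]
  refine Finset.prod_eq_one fun k hk => ?_
  have hw := wit_check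
  simp only [Bool.and_eq_true, List.all_eq_true, Nat.blt_eq] at hw
  have h := List.all_eq_true.mp wit_parity k (List.mem_range.mpr (hw.1.1 k (List.mem_toFinset.1 hk)))
  obtain ⟨j, hj⟩ : ∃ j, witW.count k = 2 * j := ⟨witW.count k / 2, by rw [beq_iff] at h; omega⟩
  rw [hj, pow_mul, pow_two, ← map_mul, gtup_sq, map_one, one_pow]

theorem wit_pr : pr2 wit = 1 ∧ pr3 wit = ev hel witW' := by
  have hw := wit_check
  have hp := wit_pos
  simp only [Bool.and_eq_true, List.all_eq_true, Nat.blt_eq] at hw hp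
  constructor
  · rw [wit, map_ev_of pr2 gtup hel _ fun a ha => (gtup_spec (hp a ha) (hw.1.1 a ha)).1, wit_one]
  · rw [wit, map_ev_of pr3 gtup (fun k => ev hel (dw k)) _ fun a ha => (gtup_spec (hp a ha) (hw.1.1 a ha)).2,
      ev_flatMap]
    rfl

theorem wit_center : pr1 wit ∈ Subgroup.center (Cfsg.SU 6 GF4 2) := by
  rw [← ker_pperm, MonoidHom.mem_ker, ← (fib_spec wit).1, wit_pr.1, map_one]

theorem center_pow {z : Cfsg.SU 6 GF4 2} (hz : z ∈ Subgroup.center (Cfsg.SU 6 GF4 2)) : z ^ 3 = 1 := by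
  have hc : Nat.card (Subgroup.center (Cfsg.SU 6 GF4 2)) = 3 := by
    rw [Unitary.card_center_SU Fi22U62.hF (by norm_num)]; norm_num
  have h := congrArg Subtype.val (pow_card_eq_one' (x := (⟨z, hz⟩ : Subgroup.center (Cfsg.SU 6 GF4 2))))
  rw [hc] at h
  exact h

theorem ker_two {u k : Hs} (hu : phi u = 1) (hu1 : u ≠ 1) (hk : phi k = 1) : k = 1 ∨ k = u := by
  have : Finite phi.ker := Nat.finite_of_card_ne_zero (by rw [card_ker]; norm_num)
  obtain ⟨x, y, hxy, hu'⟩ := Nat.card_eq_two_iff.mp card_ker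
  have m : ∀ b : phi.ker, b = x ∨ b = y := fun b => by
    have : b ∈ ({x, y} : Set phi.ker) := hu'.symm ▸ Set.mem_univ b
    simpa using this
  have hne : (⟨u, hu⟩ : phi.ker) ≠ 1 := fun h => hu1 (congrArg Subtype.val h)
  rcases m 1 with h | h <;> rcases m ⟨u, hu⟩ with h' | h' <;> rcases m ⟨k, hk⟩ with h'' | h'' <;>
    first
      | exact absurd (h'.trans h.symm) hne
      | exact Or.inl (congrArg Subtype.val (h''.trans h.symm))
      | exact Or.inr (congrArg Subtype.val (h''.trans h'.symm))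

theorem ker_hs_sq {k : Hs} (hk : phi k = 1) : k ^ 2 = 1 := by
  have h := congrArg Subtype.val (pow_card_eq_one' (x := (⟨k, hk⟩ : phi.ker)))
  rw [card_ker] at h
  exact h

instance fib_finite : Finite fib := by
  have : Finite Hs := Nat.finite_of_card_ne_zero (by rw [card_Hs]; norm_num)
  infer_instance

theorem triple_split {A B C : Type*} [Group A] [Group B] [Group C] (z : A) (a : B) (b : C) :
    ((z, 1, 1) * (1, a, 1) * (1, 1, b) : A × B × C) = (z, a, b) ∧
      ((1, a, b) * (1, 1, b)⁻¹ : A × B × C) = (1, a, 1) := by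
  constructor <;> simp

theorem card_ker_covMap : Nat.card covMap.ker = 12 ∧ ∀ x : covMap.ker, x ^ 6 = 1 := by
  let c : covMap.ker →* fib := cov.subtype.comp covMap.ker.subtype
  let ι : covMap.ker →* Subgroup.center (Cfsg.SU 6 GF4 2) × phi.ker × phi.ker :=
    ((pr1.comp c).codRestrict _ fun x => mem_ker_covMap.1 x.2).prod
      (((pr2.comp c).codRestrict _ fun x => MonoidHom.mem_ker.2 (phi_eq_one (mem_ker_covMap.1 x.2)).1).prod
        ((pr3.comp c).codRestrict _ fun x => MonoidHom.mem_ker.2 (phi_eq_one (mem_ker_covMap.1 x.2)).2))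
  have hinj : Function.Injective ι := by
    intro x y h
    refine Subtype.ext (Subtype.ext (fib_ext ?_ ?_ ?_))
    · exact congrArg (fun p => (p.1 : Cfsg.SU 6 GF4 2)) h
    · exact congrArg (fun p => (p.2.1 : Hs)) h
    · exact congrArg (fun p => (p.2.2 : Hs)) h
  have hmk : ∀ {d : fib} (hd : d ∈ cov) (hz : pr1 d ∈ Subgroup.center (Cfsg.SU 6 GF4 2)) (m : ℕ),
      ι (⟨⟨d, hd⟩, mem_ker_covMap.2 hz⟩ ^ m) =
        (⟨pr1 d, hz⟩ ^ m, ⟨pr2 d, MonoidHom.mem_ker.2 (phi_eq_one hz).1⟩ ^ m,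
          ⟨pr3 d, MonoidHom.mem_ker.2 (phi_eq_one hz).2⟩ ^ m) := fun hd hz m => by
    rw [map_pow]; rfl
  have hcenter : ∀ z : Subgroup.center (Cfsg.SU 6 GF4 2), (z, 1, 1) ∈ ι.range := by
    rintro ⟨z, hz⟩
    obtain ⟨d, hd, rfl⟩ := exists_cov_pr1 z
    refine ⟨_, (hmk hd hz 4).trans ?_⟩
    refine Prod.ext (Subtype.ext ?_) (Prod.ext (Subtype.ext ?_) (Subtype.ext ?_))
    · show pr1 d ^ 4 = pr1 d
      rw [pow_succ, center_pow hz, one_mul]
    · show pr2 d ^ 4 = 1
      rw [show 4 = 2 * 2 from rfl, pow_mul, ker_hs_sq (phi_eq_one hz).1, one_pow]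
    · show pr3 d ^ 4 = 1
      rw [show 4 = 2 * 2 from rfl, pow_mul, ker_hs_sq (phi_eq_one hz).2, one_pow]
  have cube : ∀ {k : Hs}, phi k = 1 → k ^ 3 = k := fun hk => by rw [pow_succ, ker_hs_sq hk, one_mul]
  have hthird : ∀ b : phi.ker, (1, 1, b) ∈ ι.range := by
    rintro ⟨b, hb⟩
    rcases ker_two (u := ev hel witW') (by rw [← wit_pr.2]; exact (phi_eq_one wit_center).2) wit_ne_one hb with
      rfl | rfl
    · exact one_mem _
    · refine ⟨_, (hmk wit_mem wit_center 3).trans ?_⟩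
      refine Prod.ext (Subtype.ext ?_) (Prod.ext (Subtype.ext ?_) (Subtype.ext ?_))
      · exact center_pow wit_center
      · show pr2 wit ^ 3 = 1
        rw [wit_pr.1, one_pow]
      · show pr3 wit ^ 3 = ev hel witW'
        rw [cube (phi_eq_one wit_center).2, wit_pr.2]
  have hsecond : ∀ a : phi.ker, (1, a, 1) ∈ ι.range := by
    rintro ⟨a, ha⟩
    obtain ⟨d, hd, rfl⟩ := exists_cov_pr2 a
    have hz : pr1 d ∈ Subgroup.center (Cfsg.SU 6 GF4 2) := by
      rw [← ker_pperm, MonoidHom.mem_ker, ← (fib_spec d).1]; exact ha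
    have h3 : (1, ⟨pr2 d, ha⟩, ⟨pr3 d, MonoidHom.mem_ker.2 (phi_eq_one hz).2⟩) ∈ ι.range := by
      refine ⟨_, (hmk hd hz 3).trans ?_⟩
      refine Prod.ext (Subtype.ext ?_) (Prod.ext (Subtype.ext ?_) (Subtype.ext ?_))
      · exact center_pow hz
      · exact cube ha
      · exact cube (phi_eq_one hz).2
    have h := mul_mem h3 (inv_mem (hthird ⟨pr3 d, MonoidHom.mem_ker.2 (phi_eq_one hz).2⟩))
    rw [(triple_split (1 : Subgroup.center (Cfsg.SU 6 GF4 2)) _ _).2] at h
    exact h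
  have hsurj : Function.Surjective ι := by
    rintro ⟨z, a, b⟩
    have h := mul_mem (mul_mem (hcenter z) (hsecond a)) (hthird b)
    rw [(triple_split z a b).1] at h
    exact h
  refine ⟨?_, fun x => hinj ?_⟩
  · rw [Nat.card_congr (Equiv.ofBijective ι ⟨hinj, hsurj⟩), Nat.card_prod, Nat.card_prod, card_ker,
      Unitary.card_center_SU Fi22U62.hF (by norm_num)]
    norm_num
  · rw [map_pow, map_one]
    obtain ⟨⟨z, hz⟩, ⟨a, ha⟩, ⟨b, hb⟩⟩ := ι x
    refine Prod.ext (Subtype.ext ?_) (Prod.ext (Subtype.ext ?_) (Subtype.ext ?_))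
    · show z ^ 6 = 1
      show z ^ (3 * 2) = 1
      rw [pow_mul, center_pow hz, one_pow]
    · show a ^ 6 = 1
      rw [show 6 = 2 * 3 from rfl, pow_mul, ker_hs_sq ha, one_pow]
    · show b ^ 6 = 1
      rw [show 6 = 2 * 3 from rfl, pow_mul, ker_hs_sq hb, one_pow]

universe u

theorem exists_cover {F : Type u} [Field F] [Fintype F] (hF : Fintype.card F = 4) :
    ∃ (Γ : Type u) (_ : Group Γ) (_ : Finite Γ) (σ : Γ →* Cfsg.PSU 6 F 2),
      Cfsg.IsStemExtension σ ∧ Nonempty (σ.ker ≃* Multiplicative (ZMod 3 × ZMod 2 × ZMod 2)) := by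
  let e : GF4 ≃+* F := FiniteField.ringEquivOfCardEq (by rw [hF, Unitary.GF4.card]; norm_num)
  let E := Unitary.psuMapEquiv e 6 2
  let σ : ULift.{u} cov →* Cfsg.PSU 6 F 2 :=
    E.toMonoidHom.comp (covMap.comp MulEquiv.ulift.toMonoidHom)
  obtain ⟨hs, hc, hd⟩ := covMap_stem
  have hker : ∀ g, g ∈ σ.ker ↔ MulEquiv.ulift g ∈ covMap.ker := fun g =>
    ⟨fun h => MonoidHom.mem_ker.2 (E.injective ((MonoidHom.mem_ker.1 h).trans (map_one E).symm)),
      fun h => MonoidHom.mem_ker.2 ((congrArg E (MonoidHom.mem_ker.1 h)).trans (map_one E))⟩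
  refine ⟨ULift.{u} cov, inferInstance, inferInstance, σ, ⟨?_, ?_, ?_⟩, ?_⟩
  · intro y
    obtain ⟨g, hg⟩ := hs (E.symm y)
    exact ⟨MulEquiv.ulift.symm g, by simp [σ, hg]⟩
  · intro g hg
    rw [Subgroup.mem_center_iff]
    intro x
    apply MulEquiv.ulift.injective
    rw [map_mul, map_mul]
    exact Subgroup.mem_center_iff.1 (hc ((hker g).1 hg)) _
  · intro g hg
    have h := hd ((hker g).1 hg)
    have hmap : commutator cov = (commutator (ULift.{u} cov)).map MulEquiv.ulift.toMonoidHom := by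
      rw [commutator_def, commutator_def, Subgroup.map_commutator,
        Subgroup.map_top_of_surjective _ MulEquiv.ulift.surjective]
    rw [hmap] at h
    obtain ⟨y, hy, hye⟩ := h
    rwa [MulEquiv.ulift.injective hye] at hy
  · obtain ⟨hcard, h6⟩ := card_ker_covMap
    let j : σ.ker ≃* covMap.ker :=
      { toFun := fun g => ⟨MulEquiv.ulift g.1, (hker g.1).1 g.2⟩
        invFun := fun g => ⟨MulEquiv.ulift.symm g.1, (hker _).2 (by simpa using g.2)⟩
        left_inv := fun g => Subtype.ext (MulEquiv.ulift.symm_apply_apply g.1)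
        right_inv := fun g => Subtype.ext (MulEquiv.ulift.apply_symm_apply g.1)
        map_mul' := fun a b => Subtype.ext (map_mul MulEquiv.ulift a.1 b.1) }
    obtain ⟨π, hπ⟩ := exists_surj_of_six
      (fun x y => Subtype.ext (Subgroup.mem_center_iff.1 (hc y.2) x.1)) h6 (by rw [hcard])
    have hb : Function.Bijective π := (Nat.bijective_iff_surjective_and_card π).2 ⟨hπ, by
      rw [hcard, Nat.card_congr Multiplicative.toAdd, Nat.card_prod, Nat.card_prod, Nat.card_zmod,
        Nat.card_zmod]⟩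
    exact ⟨j.trans (MulEquiv.ofBijective π hb).symm⟩

end Cfsg.Agent.U62Mult
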